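import Mathlib
import Cfsg.Agent.Lib.TICent.Basic
import Cfsg.Agent.Lib.Frobenius.Even
import Cfsg.Agent.S0205
import Cfsg.Agent.S1224
import Cfsg.Agent.S1225
import Cfsg.Agent.S0215

/-!
# TI centralizers with trivial Fitting subgroup: the strongly embedded subgroup

`HTI G` and `F(G) = 1`.  The normalizer of the centralizer of a `2`-central involution is strongly embedded.
All involutions are conjugate, commuting is an equivalence relation on involutions, two-point stabilizers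
meet `C(v)` trivially, have the order of the number of involutions of a point stabilizer and are inverted by each
involution interchanging the two points.
-/

set_option autoImplicit false
set_option linter.style.haveILetI false

namespace Cfsg.Agent.Lib.TICent

open Cfsg Subgroup
open scoped commutatorElement

variable {G : Type*} [Group G] [Finite G]

/-- A nontrivial normal solvable subgroup gives a nontrivial Fitting subgroup. -/
theorem fitting_ne_bot_of_solvable {N : Subgroup G} [hN : N.Normal] (hsol : Group.IsSolvable N)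
    (hN1 : N ≠ ⊥) : fittingSubgroup G ≠ ⊥ := by
  classical
  haveI hchar : ∀ k, (derivedSeries N k).Characteristic := by
    intro k
    induction k with
    | zero => rw [derivedSeries_zero]; infer_instance
    | succ k ih =>
      rw [derivedSeries_succ]
      exact Subgroup.commutator_characteristic _ _
  obtain ⟨n, hn⟩ := (Group.isSolvable_def N).mp hsol
  have hex : ∃ k, derivedSeries N k = ⊥ := ⟨n, hn⟩
  have hk0 : Nat.find hex ≠ 0 := by
    intro h0
    have h1 := Nat.find_spec hex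
    rw [h0, derivedSeries_zero] at h1
    haveI : Subsingleton N := by
      rw [← Subgroup.subsingleton_iff]
      exact subsingleton_of_bot_eq_top h1.symm
    apply hN1
    rw [eq_bot_iff]
    intro x hx
    have : (⟨x, hx⟩ : N) = 1 := Subsingleton.elim _ _
    simpa using congrArg Subtype.val this
  obtain ⟨k, hk⟩ := Nat.exists_eq_succ_of_ne_zero hk0
  have h1 : derivedSeries N (k + 1) = ⊥ := by
    have := Nat.find_spec hex
    rwa [hk] at this
  have h2 : derivedSeries N k ≠ ⊥ := Nat.find_min hex (by omega)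
  set A := derivedSeries N k with hA
  haveI hAc : A.Characteristic := hchar k
  haveI hAn : (A.map N.subtype).Normal :=
    Cfsg.Agent.Lib.Nilpotent.Fitting.map_subtype_normal_of_characteristic A
  have hcomm : ∀ a b : A, a * b = b * a := by
    intro a b
    have h3 : ⁅(a : N), (b : N)⁆ ∈ (⊥ : Subgroup N) := by
      rw [← h1, derivedSeries_succ]
      exact commutator_mem_commutator a.2 b.2
    rw [mem_bot, commutatorElement_eq_one_iff_mul_comm] at h3
    exact Subtype.ext h3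
  have hnil : Group.IsNilpotent (A.map N.subtype) := by
    have e : A ≃* A.map N.subtype := Subgroup.equivMapOfInjective _ _ N.subtype_injective
    letI : CommGroup A := { (inferInstance : Group A) with mul_comm := hcomm }
    haveI : Group.IsNilpotent A := CommGroup.isNilpotent
    exact Group.nilpotent_of_mulEquiv e
  have hle := Cfsg.Agent.Lib.Nilpotent.Fitting.le_fittingSubgroup hnil
  intro h0
  rw [h0, le_bot_iff, Subgroup.map_eq_bot_iff_of_injective _ N.subtype_injective] at hle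
  exact h2 hle

/-- A nontrivial odd order normal subgroup gives a nontrivial Fitting subgroup. -/
theorem fitting_ne_bot_of_odd {N : Subgroup G} [hN : N.Normal] (hodd : Odd (Nat.card N))
    (hN1 : N ≠ ⊥) : fittingSubgroup G ≠ ⊥ :=
  fitting_ne_bot_of_solvable (Cfsg.Agent.S0205.result hodd) hN1

/-- Involutions in the normalizer of `C(v)`, when `C(v)` has odd index. -/
theorem mem_Ce_of_sq (v : G) (P : Sylow 2 G) (hP : (P : Subgroup G) ≤ Ce v) {u : G} (hu : u ∈ Me v)
    (hu2 : u * u = 1) : u ∈ Ce v := by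
  have hle : Ce v ≤ Me v := Ce_le_Me v
  haveI hn : ((Ce v).subgroupOf (Me v)).Normal := Subgroup.normal_in_normalizer
  have hi := Subgroup.pow_index_mem ((Ce v).subgroupOf (Me v)) (⟨u, hu⟩ : Me v)
  have hodd : Odd ((Ce v).subgroupOf (Me v)).index := by
    rw [← Nat.not_even_iff_odd]
    intro he
    have h1 : 2 ∣ (Ce v).relIndex (Me v) := he.two_dvd
    have h2 : (Ce v).relIndex (Me v) ∣ (Ce v).index :=
      ⟨_, (Subgroup.relIndex_mul_index hle).symm⟩
    have h3 : (Ce v).index ∣ (P : Subgroup G).index := Subgroup.index_dvd_of_le hP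
    exact P.not_dvd_index (h1.trans (h2.trans h3))
  obtain ⟨k, hk⟩ := hodd
  rw [Subgroup.mem_subgroupOf] at hi
  have h4 : u ^ ((Ce v).subgroupOf (Me v)).index = u := by
    rw [hk, pow_succ, pow_mul, sq, hu2, one_pow, one_mul]
  simpa [h4] using hi

variable (hTI : HTI G) (hF : fittingSubgroup G = ⊥)
include hTI hF

/-- The normalizer of `C(v)`, `v` a `2`-central involution, is strongly embedded. -/
theorem se_of_sylow {v : G} (hv : orderOf v = 2) (P : Sylow 2 G) (hP : (P : Subgroup G) ≤ Ce v) :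
    IsStronglyEmbedded (Me v) := by
  have hv1 : v ≠ 1 := by
    rintro rfl
    simp at hv
  refine ⟨?_, ?_, ?_⟩
  · intro htop
    have hn : (Ce v).Normal := Subgroup.normalizer_eq_top_iff.mp htop
    have h1 := Cfsg.Agent.Lib.Nilpotent.Fitting.le_fittingSubgroup (nilpotent_Ce hTI hv1)
    rw [hF, le_bot_iff] at h1
    apply hv1
    have : v ∈ (⊥ : Subgroup G) := h1 ▸ self_mem_Ce v
    simpa using this
  · have h1 : orderOf (⟨v, Ce_le_Me v (self_mem_Ce v)⟩ : Me v) = 2 := by
      rw [← hv]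
      exact Subgroup.orderOf_mk _ _
    rw [even_iff_two_dvd, ← h1]
    exact orderOf_dvd_natCard _
  · intro g hg
    rw [← Nat.not_even_iff_odd]
    intro he
    haveI : Fact (Nat.Prime 2) := ⟨Nat.prime_two⟩
    obtain ⟨y, hy⟩ := exists_prime_orderOf_dvd_card' (G := ↥(Me v ⊓ (Me v).map (MulAut.conj g).toMonoidHom)) 2
      he.two_dvd
    obtain ⟨hy1, m, hm, hym⟩ := Subgroup.mem_inf.mp y.2
    have hyo : orderOf (y : G) = 2 := by
      rw [← hy]
      exact Subgroup.orderOf_coe y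
    have hmy : g * m * g⁻¹ = y := hym
    have hyy : (y : G) * y = 1 := by
      rw [← sq, ← hyo, pow_orderOf_eq_one]
    have hmm : m * m = 1 := by
      have : g * (m * m) * g⁻¹ = 1 := by
        calc g * (m * m) * g⁻¹ = (g * m * g⁻¹) * (g * m * g⁻¹) := by group
          _ = 1 := by rw [hmy, hyy]
      have h3 : m * m = g⁻¹ * (g * (m * m) * g⁻¹) * g := by group
      rw [h3, this]
      group
    have hm2 : m ∈ Ce v := mem_Ce_of_sq v P hP hm hmm
    have hy2 : (y : G) ∈ Ce v := mem_Ce_of_sq v P hP hy1 hyy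
    have hm1 : m ≠ 1 := by
      rintro rfl
      have : (y : G) = 1 := by rw [← hmy]; group
      rw [this] at hyo
      simp at hyo
    exact hg (mem_Me_of_conj hTI hm2 hm1 (by rw [hmy]; exact hy2))

omit hTI hF [Finite G] in
theorem order_conj (g v : G) : orderOf (g * v * g⁻¹) = orderOf v := by
  rw [← MulAut.conj_apply]
  exact MulEquiv.orderOf_eq _ _

omit hTI hF in
/-- The decomposition of an element into its `2`-part and its odd part. -/
theorem exists_two_odd (y : G) : ∃ s ∈ zpowers y, ∃ u ∈ zpowers y, y = s * u ∧ (∃ k : ℕ, s ^ 2 ^ k = 1) ∧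
    Odd (orderOf u) := by
  have hn : orderOf y ≠ 0 := (orderOf_pos y).ne'
  obtain ⟨k, m, hm, hk⟩ := Nat.exists_eq_two_pow_mul_odd hn
  have hc : Nat.Coprime (2 ^ k) m := Nat.Coprime.pow_left _ (Nat.coprime_two_left.mpr hm)
  have hb := Nat.gcd_eq_gcd_ab (2 ^ k) m
  rw [hc.gcd_eq_one] at hb
  set A := Nat.gcdA (2 ^ k) m
  set B := Nat.gcdB (2 ^ k) m
  have hy : y ^ orderOf y = 1 := pow_orderOf_eq_one y
  refine ⟨y ^ ((m : ℤ) * B), ⟨_, rfl⟩, y ^ (((2 ^ k : ℕ) : ℤ) * A), ⟨_, rfl⟩, ?_, ⟨k, ?_⟩, ?_⟩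
  · rw [← zpow_add]
    have : (m : ℤ) * B + ((2 ^ k : ℕ) : ℤ) * A = 1 := by
      rw [Nat.cast_one] at hb
      linarith
    rw [this, zpow_one]
  · rw [← zpow_natCast, ← zpow_mul]
    have : (m : ℤ) * B * ((2 ^ k : ℕ) : ℤ) = ((orderOf y : ℕ) : ℤ) * B := by
      rw [hk]
      push_cast
      ring
    rw [this, zpow_mul, zpow_natCast, hy, one_zpow]
  · have h1 : orderOf (y ^ (((2 ^ k : ℕ) : ℤ) * A)) ∣ m := by
      apply orderOf_dvd_of_pow_eq_one
      rw [← zpow_natCast, ← zpow_mul]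
      have : ((2 ^ k : ℕ) : ℤ) * A * (m : ℤ) = ((orderOf y : ℕ) : ℤ) * A := by
        rw [hk]
        push_cast
        ring
      rw [this, zpow_mul, zpow_natCast, hy, one_zpow]
    exact Odd.of_dvd_nat hm h1

omit hTI hF in
/-- Membership in the normalizer of the centralizer of a conjugate. -/
theorem mem_Me_conj {x y g : G} : g * y * g⁻¹ ∈ Me (g * x * g⁻¹) ↔ y ∈ Me x := by
  rw [mem_normalizer_iff, mem_normalizer_iff]
  constructor
  · intro h z
    have h1 := h (g * z * g⁻¹)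
    have e : g * y * g⁻¹ * (g * z * g⁻¹) * (g * y * g⁻¹)⁻¹ = g * (y * z * y⁻¹) * g⁻¹ := by group
    rw [e] at h1
    simpa only [SetLike.mem_coe, mem_Ce_conj] using h1
  · intro h z
    have h1 := h (g⁻¹ * z * g)
    have e1 : z = g * (g⁻¹ * z * g) * g⁻¹ := by group
    have e : g * y * g⁻¹ * z * (g * y * g⁻¹)⁻¹ = g * (y * (g⁻¹ * z * g) * y⁻¹) * g⁻¹ := by group
    rw [e]
    conv_lhs => rw [e1]
    simpa only [SetLike.mem_coe, mem_Ce_conj] using h1

omit hTI hF in
theorem Me_conj_eq (x g : G) : Me (g * x * g⁻¹) = (Me x).map (MulAut.conj g).toMonoidHom := by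
  ext y
  constructor
  · intro hy
    refine ⟨g⁻¹ * y * g, ?_, by simp [MulAut.conj_apply]; group⟩
    rw [SetLike.mem_coe, ← mem_Me_conj (g := g)]
    have : g * (g⁻¹ * y * g) * g⁻¹ = y := by group
    rw [this]
    exact hy
  · rintro ⟨z, hz, rfl⟩
    exact mem_Me_conj.mpr hz

end Cfsg.Agent.Lib.TICent

namespace Cfsg.Agent.Lib.TICent

open Cfsg Subgroup

/-- The standing hypotheses. -/
structure Setup (G : Type*) [Group G] : Prop where
  ti : HTI G
  fit : fittingSubgroup G = ⊥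
  syl : ∀ v : G, orderOf v = 2 → ∃ P : Sylow 2 G, (P : Subgroup G) ≤ Ce v
  conj : ∀ a b : G, orderOf a = 2 → orderOf b = 2 → IsConj a b

namespace Setup

variable {G : Type*} [Group G] [Finite G] (S : Setup G)
include S

theorem se {v : G} (hv : orderOf v = 2) : IsStronglyEmbedded (Me v) := by
  obtain ⟨P, hP⟩ := S.syl v hv
  exact se_of_sylow S.ti S.fit hv P hP

theorem inv_mem_Ce {v u : G} (hv : orderOf v = 2) (hu : u ∈ Me v) (hu2 : u * u = 1) : u ∈ Ce v := by
  obtain ⟨P, hP⟩ := S.syl v hv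
  exact mem_Ce_of_sq v P hP hu hu2

omit S in
theorem ne_one_of_order_two {v : G} (hv : orderOf v = 2) : v ≠ 1 := by
  rintro rfl
  simp at hv

omit S in
theorem mul_self_of_order_two {v : G} (hv : orderOf v = 2) : v * v = 1 := by
  rw [← sq, ← hv, pow_orderOf_eq_one]

omit S in
theorem order_two_of_mul_self {v : G} (hv : v * v = 1) (hv1 : v ≠ 1) : orderOf v = 2 :=
  orderOf_eq_prime (by rw [sq, hv]) hv1

theorem conj_not_mem {v g : G} (hv : orderOf v = 2) (hg : g ∉ Me v) : g * v * g⁻¹ ∉ Me v := by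
  intro h
  have h2 : (g * v * g⁻¹) * (g * v * g⁻¹) = 1 := by
    calc (g * v * g⁻¹) * (g * v * g⁻¹) = g * (v * v) * g⁻¹ := by group
      _ = 1 := by rw [mul_self_of_order_two hv]; group
  have h3 := S.inv_mem_Ce hv h h2
  exact hg (mem_Me_of_conj S.ti (self_mem_Ce v) (ne_one_of_order_two hv) h3)

theorem exists_outside {v : G} (hv : orderOf v = 2) : ∃ u : G, orderOf u = 2 ∧ u ∉ Me v := by
  have hne := (S.se hv).1
  obtain ⟨g, hg⟩ : ∃ g, g ∉ Me v := by
    by_contra hcon
    push Not at hcon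
    exact hne (eq_top_iff.mpr fun x _ => hcon x)
  refine ⟨g * v * g⁻¹, ?_, S.conj_not_mem hv hg⟩
  rw [order_conj]
  exact hv

/-- Two involutions of a point stabilizer are conjugate in a given two point stabilizer. -/
theorem exists_conj_in {v u w : G} (hv : orderOf v = 2) (hu : orderOf u = 2) (huM : u ∈ Me v)
    (hw : orderOf w = 2) (hwM : w ∉ Me v) :
    ∃ d ∈ Me v ⊓ (Me v).map (MulAut.conj w).toMonoidHom, d * v * d⁻¹ = u :=
  (Cfsg.Agent.S1225.result (Me v) (S.se hv) w hw hwM v u hv (Ce_le_Me v (self_mem_Ce v)) hu huM).1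

theorem Ce_eq_of_mem {v u : G} (hv : orderOf v = 2) (hu : orderOf u = 2) (huM : u ∈ Me v) : Ce u = Ce v := by
  obtain ⟨w, hw, hwM⟩ := S.exists_outside hv
  obtain ⟨d, hd, rfl⟩ := S.exists_conj_in hv hu huM hw hwM
  have hd1 := (Subgroup.mem_inf.mp hd).1
  ext y
  constructor
  · intro hy
    have h1 : d * (d⁻¹ * y * d) * d⁻¹ ∈ Ce (d * v * d⁻¹) := by
      have : d * (d⁻¹ * y * d) * d⁻¹ = y := by group
      rw [this]
      exact hy
    rw [mem_Ce_conj] at h1
    have := conj_mem_of_mem_Me hd1 h1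
    have e : d * (d⁻¹ * y * d) * d⁻¹ = y := by group
    rwa [e] at this
  · intro hy
    have h1 : d⁻¹ * y * d ∈ Ce v := by
      have := conj_mem_of_mem_Me ((Me v).inv_mem hd1) hy
      simpa using this
    have h2 : d * (d⁻¹ * y * d) * d⁻¹ ∈ Ce (d * v * d⁻¹) := mem_Ce_conj.mpr h1
    have e : d * (d⁻¹ * y * d) * d⁻¹ = y := by group
    rwa [e] at h2

theorem Ce_eq_of_comm {v u : G} (hv : orderOf v = 2) (hu : orderOf u = 2) (hc : v * u = u * v) : Ce u = Ce v :=
  S.Ce_eq_of_mem hv hu (Ce_le_Me v (mem_Ce.mpr hc))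

theorem comm_of_mem {v u : G} (hv : orderOf v = 2) (huM : u ∈ Me v) (hu2 : u * u = 1) : v * u = u * v :=
  mem_Ce.mp (S.inv_mem_Ce hv huM hu2)

/-- If `u` does not commute with `v`, then `C(u) ∩ C(v) = 1`. -/
theorem inf_Ce {v u x : G} (hv : orderOf v = 2) (hu : orderOf u = 2) (hnc : v * u ≠ u * v) (hx : x ∈ Ce v)
    (hx' : x ∈ Ce u) : x = 1 := by
  obtain ⟨g, rfl⟩ := isConj_iff.mp (S.conj v u hv hu)
  have hg : g ∉ Me v := by
    intro hg
    exact hnc (mem_Ce.mp (conj_mem_of_mem_Me hg (self_mem_Ce v)))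
  have h1 : g⁻¹ * x * g ∈ Ce v := by
    rw [← mem_Ce_conj (g := g)]
    have : g * (g⁻¹ * x * g) * g⁻¹ = x := by group
    rw [this]
    exact hx'
  have h2 : g * (g⁻¹ * x * g) * g⁻¹ ∈ Ce v := by
    have : g * (g⁻¹ * x * g) * g⁻¹ = x := by group
    rw [this]
    exact hx
  have h3 := S.ti v g hg _ h1 h2
  have h4 : x = g * (g⁻¹ * x * g) * g⁻¹ := by group
  rw [h4, h3]
  group

/-- Two-point stabilizers have odd order. -/
theorem odd_inf {v u : G} (hv : orderOf v = 2) (hu : orderOf u = 2) (hnc : v * u ≠ u * v) :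
    Odd (Nat.card ↥(Me v ⊓ Me u)) := by
  obtain ⟨g, rfl⟩ := isConj_iff.mp (S.conj v u hv hu)
  have hg : g ∉ Me v := by
    intro hg
    exact hnc (mem_Ce.mp (conj_mem_of_mem_Me hg (self_mem_Ce v)))
  rw [Me_conj_eq]
  exact (S.se hv).2.2 g hg

/-- A nonidentity odd order element of `C(v)` has its centralizer in `C(v)`. -/
theorem Ce_le_of_odd {v p : G} (hv : orderOf v = 2) (hp : p ∈ Ce v) (hp1 : p ≠ 1) (hodd : Odd (orderOf p)) :
    Ce p ≤ Ce v := by
  classical
  haveI : Fact (Nat.Prime 2) := ⟨Nat.prime_two⟩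
  obtain ⟨P, hP⟩ := S.syl v hv
  have hv1 := ne_one_of_order_two hv
  -- nilpotent `C(v)`: `p` commutes with `P`
  haveI hnv : Group.IsNilpotent (Ce v) := nilpotent_Ce S.ti hv1
  haveI hnp : Group.IsNilpotent (Ce p) := nilpotent_Ce S.ti hp1
  have hPp : (P : Subgroup G) ≤ Ce p := by
    intro x hx
    have h1 : Commute (⟨x, hP hx⟩ : Ce v) (⟨p, hp⟩ : Ce v) := by
      apply Cfsg.Agent.Lib.Nilpotent.Elements.commute_of_coprime_orderOf
      rw [Subgroup.orderOf_mk, Subgroup.orderOf_mk]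
      obtain ⟨k, hk⟩ := (P.isPGroup' ⟨x, hx⟩)
      have h2 : orderOf x ∣ 2 ^ k := by
        apply orderOf_dvd_of_pow_eq_one
        have := congrArg Subtype.val hk
        simpa using this
      exact Nat.Coprime.coprime_dvd_left h2 (Nat.Coprime.pow_left _ (Nat.coprime_two_left.mpr hodd))
    exact mem_Ce.mpr (congrArg Subtype.val h1.symm.eq)
  -- the Sylow subgroup inside `C(p)`
  let Q : Sylow 2 (Ce p) := P.subtype hPp
  have hQ : ∀ x : Ce p, (∃ k : ℕ, x ^ 2 ^ k = 1) → (x : G) ∈ (P : Subgroup G) := by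
    rintro x ⟨k, hk⟩
    have h1 : x ∈ (Q : Subgroup (Ce p)) := Cfsg.Agent.Lib.Nilpotent.Elements.mem_sylow_of_pow_eq_one Q hk
    rw [Sylow.coe_subtype] at h1
    exact Subgroup.mem_subgroupOf.mp h1
  have hvp : v ∈ Ce p := mem_Ce_comm.mp hp
  intro y hy
  obtain ⟨s, hs, u, hu, rfl, ⟨k, hk⟩, huo⟩ := exists_two_odd y
  have hyle : zpowers (s * u) ≤ Ce p := Subgroup.zpowers_le.mpr hy
  apply (Ce v).mul_mem
  · apply hP
    apply hQ ⟨s, hyle hs⟩
    refine ⟨k, Subtype.ext ?_⟩
    simpa using hk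
  · have h1 : Commute (⟨u, hyle hu⟩ : Ce p) (⟨v, hvp⟩ : Ce p) := by
      apply Cfsg.Agent.Lib.Nilpotent.Elements.commute_of_coprime_orderOf
      rw [Subgroup.orderOf_mk, Subgroup.orderOf_mk, hv]
      exact Nat.coprime_two_right.mpr huo
    exact mem_Ce.mpr (congrArg Subtype.val h1.symm.eq)

/-- The existence of an involution interchanging two points. -/
theorem exists_swap {v u : G} (hv : orderOf v = 2) (hu : orderOf u = 2) (hnc : v * u ≠ u * v) :
    ∃ w : G, orderOf w = 2 ∧ Ce (w * v * w⁻¹) = Ce u := by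
  classical
  obtain ⟨g, rfl⟩ := isConj_iff.mp (S.conj v u hv hu)
  have hg : g ∉ Me v := by
    intro hg
    exact hnc (mem_Ce.mp (conj_mem_of_mem_Me hg (self_mem_Ce v)))
  let H := Me v
  let x : G ⧸ H := QuotientGroup.mk 1
  let y : G ⧸ H := QuotientGroup.mk g
  have hxy : x ≠ y := by
    intro h
    apply hg
    have := QuotientGroup.eq.mp h
    simpa using this
  have hc := Cfsg.Agent.S1224.result H (S.se hv) x y hxy
  have hne : Nonempty {t : G // orderOf t = 2 ∧ t ∈ H} := ⟨⟨v, hv, Ce_le_Me v (self_mem_Ce v)⟩⟩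
  have hpos : 0 < Nat.card {t : G // orderOf t = 2 ∧ t ∈ H} := Nat.card_pos
  rw [← hc] at hpos
  obtain ⟨⟨i, hi, hiy⟩⟩ : Nonempty {i : G // orderOf i = 2 ∧ i • x = y} :=
    (Nat.card_pos_iff.mp hpos).1
  have hiy2 : (QuotientGroup.mk i : G ⧸ H) = QuotientGroup.mk g := by
    have : i • x = QuotientGroup.mk i := by
      change QuotientGroup.mk (i * 1) = _
      rw [mul_one]
    rw [← this, hiy]
  have hm : i⁻¹ * g ∈ Me v := QuotientGroup.eq.mp hiy2
  refine ⟨i, hi, ?_⟩
  set m := i⁻¹ * g with hmdef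
  have hgi : g = i * m := by rw [hmdef]; group
  have hv1 : orderOf (m * v * m⁻¹) = 2 := by rw [order_conj]; exact hv
  have hv2 : m * v * m⁻¹ ∈ Me v := (Me v).mul_mem ((Me v).mul_mem hm (Ce_le_Me v (self_mem_Ce v)))
    ((Me v).inv_mem hm)
  have hce := S.Ce_eq_of_mem hv hv1 hv2
  ext z
  have e1 : g * v * g⁻¹ = i * (m * v * m⁻¹) * i⁻¹ := by rw [hgi]; group
  rw [e1]
  have key : ∀ a b : G, Ce a = Ce b → (z ∈ Ce (i * a * i⁻¹) ↔ z ∈ Ce (i * b * i⁻¹)) := by
    intro a b hab
    have e2 : z = i * (i⁻¹ * z * i) * i⁻¹ := by group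
    rw [e2, mem_Ce_conj, mem_Ce_conj, hab]
  exact key _ _ hce.symm

omit S [Finite G] in
theorem Ce_conj_congr {a b : G} (h : Ce a = Ce b) (i : G) : Ce (i * a * i⁻¹) = Ce (i * b * i⁻¹) := by
  ext z
  have e2 : z = i * (i⁻¹ * z * i) * i⁻¹ := by group
  rw [e2, mem_Ce_conj, mem_Ce_conj, h]

/-- Basic properties of an interchanging involution. -/
theorem swap_symm {v u w : G} (hw : orderOf w = 2) (h : Ce (w * v * w⁻¹) = Ce u) :
    Ce (w * u * w⁻¹) = Ce v := by
  have hww := mul_self_of_order_two hw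
  have hinv : w⁻¹ = w := inv_eq_of_mul_eq_one_left hww
  rw [← Ce_conj_congr h w]
  congr 1
  calc w * (w * v * w⁻¹) * w⁻¹ = (w * w) * v * (w⁻¹ * w⁻¹) := by group
    _ = v := by rw [hinv, hww]; group

omit S [Finite G] in
theorem Me_eq_of_Ce_eq {a b : G} (h : Ce a = Ce b) : Me a = Me b := by
  simp only [Me, h]

/-- A two-point stabilizer meets `C(v)` trivially. -/
theorem inf_eq_one {v u p : G} (hv : orderOf v = 2) (hu : orderOf u = 2) (hnc : v * u ≠ u * v)
    (hp : p ∈ Me v) (hp' : p ∈ Me u) (hpC : p ∈ Ce v) : p = 1 := by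
  by_contra hp1
  obtain ⟨w, hw, hwv⟩ := S.exists_swap hv hu hnc
  have hwu := S.swap_symm hw hwv
  set r := w * p * w⁻¹ with hr
  -- `r` lies in both point stabilizers and in `C(u)`
  have hr1 : r ∈ Me u := by
    rw [← Me_eq_of_Ce_eq hwv]
    exact mem_Me_conj.mpr hp
  have hr2 : r ∈ Me v := by
    rw [← Me_eq_of_Ce_eq hwu]
    exact mem_Me_conj.mpr hp'
  have hr3 : r ∈ Ce u := by
    rw [← hwv]
    exact mem_Ce_conj.mpr hpC
  -- `p` and `r` commute
  have hcomm : p * r * p⁻¹ * r⁻¹ = 1 := by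
    apply S.inf_Ce hv hu hnc
    · have : p * r * p⁻¹ * r⁻¹ = p * (r * p⁻¹ * r⁻¹) := by group
      rw [this]
      exact (Ce v).mul_mem hpC (conj_mem_of_mem_Me hr2 ((Ce v).inv_mem hpC))
    · exact (Ce u).mul_mem (conj_mem_of_mem_Me hp' hr3) ((Ce u).inv_mem hr3)
  have hcomm' : p * r = r * p := by
    have : p * r * p⁻¹ = r := mul_inv_eq_one.mp hcomm
    exact (mul_inv_eq_iff_eq_mul.mp this)
  -- `p` has odd order
  have hodd : Odd (orderOf p) := by
    have h1 := S.odd_inf hv hu hnc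
    have h2 : orderOf (⟨p, Subgroup.mem_inf.mpr ⟨hp, hp'⟩⟩ : ↥(Me v ⊓ Me u)) ∣ _ := orderOf_dvd_natCard _
    rw [Subgroup.orderOf_mk] at h2
    exact Odd.of_dvd_nat h1 h2
  have hr4 : r ∈ Ce v := S.Ce_le_of_odd hv hpC hp1 hodd (mem_Ce.mpr hcomm')
  have hr5 : r = 1 := S.inf_Ce hv hu hnc hr4 hr3
  apply hp1
  have : p = w⁻¹ * r * w := by rw [hr]; group
  rw [this, hr5]
  group

/-- The order of a two point stabilizer is the number of involutions of a point stabilizer. -/
theorem card_inf {v u : G} (hv : orderOf v = 2) (hu : orderOf u = 2) (hnc : v * u ≠ u * v) :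
    Nat.card ↥(Me v ⊓ Me u) = Nat.card {t : G // orderOf t = 2 ∧ t ∈ Me v} := by
  obtain ⟨w, hw, hwv⟩ := S.exists_swap hv hu hnc
  have hwM : w ∉ Me v := by
    intro h
    have h1 : w * v * w⁻¹ ∈ Ce v := conj_mem_of_mem_Me h (self_mem_Ce v)
    have h2 := S.Ce_eq_of_comm hv (by rw [order_conj]; exact hv) (mem_Ce.mp h1)
    rw [hwv] at h2
    exact hnc (mem_Ce.mp (h2 ▸ self_mem_Ce u))
  have hmap : (Me v).map (MulAut.conj w).toMonoidHom = Me u := by
    rw [← Me_conj_eq, Me_eq_of_Ce_eq hwv]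
  let f : ↥(Me v ⊓ Me u) → {t : G // orderOf t = 2 ∧ t ∈ Me v} := fun d =>
    ⟨d * v * (d : G)⁻¹, by rw [order_conj]; exact hv,
      (Me v).mul_mem ((Me v).mul_mem (Subgroup.mem_inf.mp d.2).1 (Ce_le_Me v (self_mem_Ce v)))
        ((Me v).inv_mem (Subgroup.mem_inf.mp d.2).1)⟩
  apply Nat.card_congr
  refine Equiv.ofBijective f ⟨?_, ?_⟩
  · intro a b hab
    have h1 : (a : G) * v * (a : G)⁻¹ = b * v * (b : G)⁻¹ := congrArg Subtype.val hab
    have h2 : (b : G)⁻¹ * a ∈ Ce v := by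
      rw [mem_Ce]
      have h3 : (a : G) * v = b * v * (b : G)⁻¹ * a := by
        rw [← h1]
        group
      calc v * ((b : G)⁻¹ * a) = (b : G)⁻¹ * (b * v * (b : G)⁻¹ * a) := by group
        _ = (b : G)⁻¹ * (a * v) := by rw [h3]
        _ = _ := by group
    have h4 := S.inf_eq_one hv hu hnc
      ((Me v).mul_mem ((Me v).inv_mem (Subgroup.mem_inf.mp b.2).1) (Subgroup.mem_inf.mp a.2).1)
      ((Me u).mul_mem ((Me u).inv_mem (Subgroup.mem_inf.mp b.2).2) (Subgroup.mem_inf.mp a.2).2) h2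
    apply Subtype.ext
    exact (inv_mul_eq_one.mp h4).symm
  · rintro ⟨t, ht, htM⟩
    obtain ⟨d, hd, rfl⟩ := S.exists_conj_in hv ht htM hw hwM
    rw [hmap] at hd
    exact ⟨⟨d, hd⟩, rfl⟩

/-- An involution interchanging two points inverts the two point stabilizer. -/
theorem swap_inverts {v u w y : G} (hv : orderOf v = 2) (hnc : v * u ≠ u * v)
    (hw : orderOf w = 2) (hwv : Ce (w * v * w⁻¹) = Ce u) (hy : y ∈ Me v) (hy' : y ∈ Me u) :
    w * y * w⁻¹ = y⁻¹ := by
  have hwu := S.swap_symm hw hwv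
  have hww := mul_self_of_order_two hw
  have hnorm : w ∈ normalizer ((Me v ⊓ Me u : Subgroup G) : Set G) := by
    rw [mem_normalizer_iff]
    intro z
    have h1 : z ∈ Me v ↔ w * z * w⁻¹ ∈ Me u := by
      rw [← Me_eq_of_Ce_eq hwv]
      exact mem_Me_conj.symm
    have h2 : z ∈ Me u ↔ w * z * w⁻¹ ∈ Me v := by
      rw [← Me_eq_of_Ce_eq hwu]
      exact mem_Me_conj.symm
    simp only [Subgroup.mem_inf]
    rw [h1, h2]
    exact and_comm
  have hnc' : w * v ≠ v * w := by
    intro hc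
    have h2 : w * v * w⁻¹ = v := by rw [hc]; group
    rw [h2] at hwv
    exact hnc (mem_Ce.mp (hwv ▸ self_mem_Ce u))
  have hnc'' : v * w ≠ w * v := fun h => hnc' h.symm
  refine Cfsg.Agent.Lib.Frobenius.Even.inverts_of_fpf_involution hnorm hww ?_
    (Subgroup.mem_inf.mpr ⟨hy, hy'⟩)
  intro k hk hwk
  have hk1 : k ∈ Ce w := mem_Ce.mpr hwk
  exact S.inf_eq_one hw hv hnc' (Ce_le_Me w hk1) (Subgroup.mem_inf.mp hk).1 hk1

/-- An odd order element of a point stabilizer is not inverted by an involution of that point stabilizer. -/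
theorem eq_one_of_inverted {w x : G} (hw : orderOf w = 2) (hx : x ∈ Me w) (hodd : Odd (orderOf x))
    (hinv : w * x * w⁻¹ = x⁻¹) : x = 1 := by
  have hww := mul_self_of_order_two hw
  have hinv' : w⁻¹ = w := inv_eq_of_mul_eq_one_left hww
  set c := x * w * x⁻¹ with hc
  have hcM : c ∈ Me w := (Me w).mul_mem ((Me w).mul_mem hx (Ce_le_Me w (self_mem_Ce w))) ((Me w).inv_mem hx)
  have hcc : c * c = 1 := by
    calc c * c = x * (w * w) * x⁻¹ := by rw [hc]; group
      _ = 1 := by rw [hww]; group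
  have h1 := S.comm_of_mem hw hcM hcc
  -- `c * w = x * x`
  have h2 : c * w = x * x := by
    have h3 : w * x⁻¹ * w⁻¹ = x := by
      have : w * x⁻¹ * w⁻¹ = (w * x * w⁻¹)⁻¹ := by group
      rw [this, hinv, inv_inv]
    calc c * w = x * (w * x⁻¹ * w⁻¹) := by rw [hc, hinv']; group
      _ = x * x := by rw [h3]
  have h4 : (x * x) * (x * x) = 1 := by
    rw [← h2]
    calc c * w * (c * w) = c * (w * c) * w := by group
      _ = c * (c * w) * w := by rw [h1]
      _ = (c * c) * (w * w) := by group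
      _ = 1 := by rw [hcc, hww, one_mul]
  have h5 : x ^ 4 = 1 := by
    calc x ^ 4 = (x * x) * (x * x) := by simp only [pow_succ, pow_zero, one_mul, mul_assoc]
      _ = 1 := h4
  have h6 : orderOf x ∣ 4 := orderOf_dvd_of_pow_eq_one h5
  have h7 : orderOf x = 1 := by
    have h8 : (orderOf x).Coprime 4 := by
      have : (orderOf x).Coprime 2 := Nat.coprime_two_right.mpr hodd
      exact Nat.Coprime.pow_right 2 this
    exact Nat.Coprime.eq_one_of_dvd h8 h6
  exact orderOf_eq_one_iff.mp h7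

end Setup

end Cfsg.Agent.Lib.TICent
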