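import Mathlib
import Cfsg.Agent.Lib.TICent.Strong
import Cfsg.Prelude.Def_LieExceptional
import Cfsg.Agent.S0338

/-!
# TI centralizers with trivial Fitting subgroup: the Zassenhaus action

The action on the cosets of the normalizer of the centralizer of an involution is a Zassenhaus action.
-/

set_option autoImplicit false
set_option linter.style.haveILetI false

namespace Cfsg.Agent.Lib.TICent

open Cfsg Subgroup MulAction

namespace Setup

variable {G : Type*} [Group G] [Finite G] (S : Setup G) {t : G}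

/-- The point set. -/
abbrev Om (t : G) : Type _ := G ⧸ Me t

/-- A representing involution of a point. -/
noncomputable def inv (t : G) (a : Om t) : G := a.out * t * a.out⁻¹

theorem order_inv (ht : orderOf t = 2) (a : Om t) : orderOf (inv t a) = 2 := by
  rw [inv, order_conj]
  exact ht

theorem smul_mk_eq_iff {x g : G} : x • (QuotientGroup.mk g : Om t) = QuotientGroup.mk g ↔ x ∈ Me (g * t * g⁻¹) := by
  rw [← mem_Me_conj (g := g⁻¹)]
  have e : g⁻¹ * (g * t * g⁻¹) * g⁻¹⁻¹ = t := by group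
  rw [e]
  have : x • (QuotientGroup.mk g : Om t) = QuotientGroup.mk (x * g) := rfl
  rw [this, eq_comm, QuotientGroup.eq]
  have e2 : g⁻¹ * (x * g) = g⁻¹ * x * g⁻¹⁻¹ := by group
  rw [e2]

theorem mem_stab_iff {x : G} {a : Om t} : x • a = a ↔ x ∈ Me (inv t a) := by
  conv_lhs => rw [← QuotientGroup.out_eq' a]
  exact smul_mk_eq_iff

include S

/-- Two points with commuting representing involutions agree. -/
theorem eq_of_comm (ht : orderOf t = 2) {a b : Om t} (hc : inv t a * inv t b = inv t b * inv t a) : a = b := by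
  have h1 := S.Ce_eq_of_comm (order_inv ht a) (order_inv ht b) hc
  have h2 : Ce ((b.out⁻¹ * a.out) * t * (b.out⁻¹ * a.out)⁻¹) = Ce t := by
    have h3 := Ce_conj_congr h1 b.out⁻¹
    have e1 : b.out⁻¹ * inv t b * b.out⁻¹⁻¹ = t := by rw [inv]; group
    have e2 : b.out⁻¹ * inv t a * b.out⁻¹⁻¹ = (b.out⁻¹ * a.out) * t * (b.out⁻¹ * a.out)⁻¹ := by rw [inv]; group
    rw [e1, e2] at h3
    exact h3.symm
  have h4 : (b.out⁻¹ * a.out) ∈ Me t := by
    apply mem_Me_of_conj S.ti (self_mem_Ce t) (ne_one_of_order_two ht)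
    rw [← h2]
    exact self_mem_Ce _
  rw [← QuotientGroup.out_eq' a, ← QuotientGroup.out_eq' b, eq_comm, QuotientGroup.eq]
  exact h4

/-- Distinct points have non-commuting representing involutions. -/
theorem not_comm (ht : orderOf t = 2) {a b : Om t} (hab : a ≠ b) : inv t a * inv t b ≠ inv t b * inv t a :=
  fun hc => hab (S.eq_of_comm ht hc)

/-- The point of an involution. -/
theorem exists_point (ht : orderOf t = 2) {v : G} (hv : orderOf v = 2) : ∃ a : Om t, Ce (inv t a) = Ce v := by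
  obtain ⟨g, rfl⟩ := isConj_iff.mp (S.conj t v ht hv)
  refine ⟨QuotientGroup.mk g, ?_⟩
  apply S.Ce_eq_of_mem (by rw [order_conj]; exact ht) (order_inv ht _)
  exact smul_mk_eq_iff.mp (mem_stab_iff.mpr (Ce_le_Me _ (self_mem_Ce _)))

/-- A group element moves the representing involution accordingly. -/
theorem Ce_smul (ht : orderOf t = 2) (w : G) (a : Om t) : Ce (inv t (w • a)) = Ce (w * inv t a * w⁻¹) := by
  apply S.Ce_eq_of_mem (by rw [order_conj]; exact order_inv ht a) (order_inv ht _)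
  set u := inv t (w • a) with hu
  have h1 : u • (w • a) = w • a := mem_stab_iff.mpr (Ce_le_Me _ (self_mem_Ce _))
  have h2 : (w⁻¹ * u * w) • a = a := by
    rw [mul_smul, mul_smul, h1, inv_smul_smul]
  have h3 := mem_stab_iff.mp h2
  have h4 : w * (w⁻¹ * u * w) * w⁻¹ ∈ Me (w * inv t a * w⁻¹) := mem_Me_conj.mpr h3
  have e : w * (w⁻¹ * u * w) * w⁻¹ = u := by group
  rwa [e] at h4

/-- An involution carrying `a` to `b` interchanges them and inverts their common stabilizer. -/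
theorem inverts_of_smul (ht : orderOf t = 2) {a b : Om t} (hab : a ≠ b) {w x : G} (hw : orderOf w = 2)
    (hwa : w • a = b) (hxa : x • a = a) (hxb : x • b = b) : w * x * w⁻¹ = x⁻¹ := by
  have h1 : Ce (w * inv t a * w⁻¹) = Ce (inv t b) := by
    rw [← S.Ce_smul ht, hwa]
  exact S.swap_inverts (order_inv ht a) (S.not_comm ht hab) hw h1 (mem_stab_iff.mp hxa) (mem_stab_iff.mp hxb)

/-- Two points are interchanged by some involution. -/
theorem exists_inv_smul (ht : orderOf t = 2) {a b : Om t} (hab : a ≠ b) :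
    ∃ w : G, orderOf w = 2 ∧ w • a = b := by
  obtain ⟨w, hw, h1⟩ := S.exists_swap (order_inv ht a) (order_inv ht b) (S.not_comm ht hab)
  refine ⟨w, hw, ?_⟩
  apply S.eq_of_comm ht
  have h2 : Ce (inv t (w • a)) = Ce (inv t b) := by
    rw [S.Ce_smul ht, h1]
  have h3 : inv t b ∈ Ce (inv t (w • a)) := by
    rw [h2]
    exact self_mem_Ce _
  exact mem_Ce.mp h3

/-- The order of a two point stabilizer. -/
theorem inf_stab_odd (ht : orderOf t = 2) {a b : Om t} (hab : a ≠ b) {x : G} (hxa : x • a = a)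
    (hxb : x • b = b) : Odd (orderOf x) := by
  have h1 := S.odd_inf (order_inv ht a) (order_inv ht b) (S.not_comm ht hab)
  have h2 : orderOf (⟨x, Subgroup.mem_inf.mpr ⟨mem_stab_iff.mp hxa, mem_stab_iff.mp hxb⟩⟩ :
      ↥(Me (inv t a) ⊓ Me (inv t b))) ∣ _ := orderOf_dvd_natCard _
  rw [Subgroup.orderOf_mk] at h2
  exact Odd.of_dvd_nat h1 h2

/-- An element of a two point stabilizer has a centralizer of odd order. -/
theorem odd_Ce (ht : orderOf t = 2) {a b : Om t} (hab : a ≠ b) {x : G} (hx1 : x ≠ 1) (hxa : x • a = a)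
    (hxb : x • b = b) : Odd (Nat.card (Ce x)) := by
  rw [← Nat.not_even_iff_odd]
  intro he
  haveI : Fact (Nat.Prime 2) := ⟨Nat.prime_two⟩
  obtain ⟨u, hu⟩ := exists_prime_orderOf_dvd_card' (G := ↥(Ce x)) 2 he.two_dvd
  have huo : orderOf (u : G) = 2 := by
    rw [← hu]
    exact Subgroup.orderOf_coe u
  obtain ⟨e, he⟩ := S.exists_point ht huo
  have hxu : x ∈ Ce (u : G) := mem_Ce_comm.mp u.2
  -- choose a point different from `e`
  obtain ⟨p, hpe, hxp⟩ : ∃ p : Om t, p ≠ e ∧ x • p = p := by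
    by_cases hae : a = e
    · exact ⟨b, fun h => hab (hae.trans h.symm), hxb⟩
    · exact ⟨a, hae, hxa⟩
  have hnc : (u : G) * inv t p ≠ inv t p * u := by
    intro hc
    have h1 := S.Ce_eq_of_comm huo (order_inv ht p) hc
    apply S.not_comm ht hpe
    have h2 : inv t e ∈ Ce (inv t p) := by
      rw [h1, ← he]
      exact self_mem_Ce _
    exact mem_Ce.mp h2
  exact hx1 (S.inf_eq_one huo (order_inv ht p) hnc (Ce_le_Me _ hxu) (mem_stab_iff.mp hxp) hxu)

/-- No nonidentity element fixes three points. -/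
theorem no_three (ht : orderOf t = 2) {a b c : Om t} (hab : a ≠ b) (hac : a ≠ c) (hbc : b ≠ c) {x : G}
    (hxa : x • a = a) (hxb : x • b = b) (hxc : x • c = c) : x = 1 := by
  classical
  by_contra hx1
  haveI : Fintype (Om t) := Fintype.ofFinite _
  let F : Finset (Om t) := Finset.univ.filter (fun p => x • p = p)
  have hF : ∀ p, p ∈ F ↔ x • p = p := fun p => by simp [F]
  have hodd := S.inf_stab_odd ht hab hxa hxb
  -- the centralizer is transitive on `F`
  have htr : ∀ q₁ ∈ F, ∀ q₂ ∈ F, ∃ z ∈ Ce x, z • q₂ = q₁ := by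
    intro q₁ hq₁ q₂ hq₂
    by_cases hq : q₁ = q₂
    · exact ⟨1, (Ce x).one_mem, by rw [one_smul, hq]⟩
    obtain ⟨p, hp, hp1, hp2⟩ : ∃ p ∈ F, p ≠ q₁ ∧ p ≠ q₂ := by
      by_contra hno
      push Not at hno
      have key : ∀ p ∈ F, p = q₁ ∨ p = q₂ := by
        intro p hp
        by_cases h : p = q₁
        · exact Or.inl h
        · exact Or.inr (hno p hp h)
      rcases key a ((hF a).mpr hxa) with h1 | h1 <;> rcases key b ((hF b).mpr hxb) with h2 | h2 <;>
        rcases key c ((hF c).mpr hxc) with h3 | h3 <;> simp_all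
    have hxp := (hF p).mp hp
    have hx₁ := (hF q₁).mp hq₁
    have hx₂ := (hF q₂).mp hq₂
    obtain ⟨w₁, hw₁, hw₁p⟩ := S.exists_inv_smul ht hp1
    obtain ⟨w₂, hw₂, hw₂p⟩ := S.exists_inv_smul ht hp2
    have hi₁ := S.inverts_of_smul ht hp1 hw₁ hw₁p hxp hx₁
    have hi₂ := S.inverts_of_smul ht hp2 hw₂ hw₂p hxp hx₂
    refine ⟨w₁ * w₂, ?_, ?_⟩
    · rw [mem_Ce]
      have h1 : w₂ * x = x⁻¹ * w₂ := by
        rw [← hi₂]
        group
      have h2 : w₁ * x⁻¹ = x * w₁ := by
        have : w₁ * x⁻¹ * w₁⁻¹ = x := by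
          have e : w₁ * x⁻¹ * w₁⁻¹ = (w₁ * x * w₁⁻¹)⁻¹ := by group
          rw [e, hi₁, inv_inv]
        calc w₁ * x⁻¹ = (w₁ * x⁻¹ * w₁⁻¹) * w₁ := by group
          _ = x * w₁ := by rw [this]
      calc x * (w₁ * w₂) = (x * w₁) * w₂ := by group
        _ = (w₁ * x⁻¹) * w₂ := by rw [h2]
        _ = w₁ * (x⁻¹ * w₂) := by group
        _ = w₁ * (w₂ * x) := by rw [h1]
        _ = _ := by group
    · rw [mul_smul, ← hw₂p, ← mul_smul w₂ w₂, mul_self_of_order_two hw₂, one_smul, hw₁p]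
  -- `F` has odd size
  have hFodd : Odd F.card := by
    have horb : (F : Set (Om t)) = orbit (Ce x) a := by
      ext q
      constructor
      · intro hq
        obtain ⟨z, hz, hzq⟩ := htr q hq a ((hF a).mpr hxa)
        exact ⟨⟨z, hz⟩, hzq⟩
      · rintro ⟨⟨z, hz⟩, rfl⟩
        have hz' : x * z = z * x := mem_Ce.mp hz
        have : x • (z • a) = z • a := by
          rw [← mul_smul, hz', mul_smul, hxa]
        exact (hF _).mpr this
    have h1 : F.card = (orbit (Ce x) a).ncard := by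
      rw [← horb, Set.ncard_coe_finset]
    rw [h1, ← index_stabilizer]
    exact Odd.of_dvd_nat (S.odd_Ce ht hab hx1 hxa hxb) (Subgroup.index_dvd_card _)
  -- `F` has even size
  obtain ⟨w, hw, hwa⟩ := S.exists_inv_smul ht hab
  have hww := mul_self_of_order_two hw
  have hinv := S.inverts_of_smul ht hab hw hwa hxa hxb
  have hsum : ∑ _p ∈ F, (1 : ZMod 2) = 0 := by
    refine Finset.sum_involution (fun p _ => w • p) (fun _ _ => by decide) ?_ ?_ ?_
    · intro p hp _ hwp
      have hp' := (hF p).mp hp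
      have h1 : w ∈ Me (inv t p) := mem_stab_iff.mp hwp
      have h2 := S.Ce_eq_of_mem (order_inv ht p) hw h1
      have h3 : x ∈ Me w := by
        rw [Me_eq_of_Ce_eq h2]
        exact mem_stab_iff.mp hp'
      exact hx1 (S.eq_one_of_inverted hw h3 hodd hinv)
    · intro p hp
      have hp' := (hF p).mp hp
      rw [hF]
      have h1 : x * w = w * x⁻¹ := by
        have : w * x⁻¹ * w⁻¹ = x := by
          have e : w * x⁻¹ * w⁻¹ = (w * x * w⁻¹)⁻¹ := by group
          rw [e, hinv, inv_inv]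
        calc x * w = (w * x⁻¹ * w⁻¹) * w := by rw [this]
          _ = w * x⁻¹ := by group
      rw [← mul_smul, h1, mul_smul, inv_smul_eq_iff.mpr hp'.symm]
    · intro p _
      rw [← mul_smul, hww, one_smul]
  rw [Finset.sum_const, nsmul_eq_mul, mul_one, ZMod.natCast_eq_zero_iff] at hsum
  exact (Nat.not_even_iff_odd.mpr hFodd) (even_iff_two_dvd.mpr hsum)

/-- Two point stabilizers are transitive on the involutions of a point stabilizer. -/
theorem exists_conj_inf {v u z : G} (hv : orderOf v = 2) (hu : orderOf u = 2) (hnc : v * u ≠ u * v)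
    (hz : orderOf z = 2) (hzM : z ∈ Me v) : ∃ d ∈ Me v ⊓ Me u, d * v * d⁻¹ = z := by
  obtain ⟨w, hw, hwv⟩ := S.exists_swap hv hu hnc
  have hwM : w ∉ Me v := by
    intro h
    have h1 : w * v * w⁻¹ ∈ Ce v := conj_mem_of_mem_Me h (self_mem_Ce v)
    have h2 := S.Ce_eq_of_comm hv (by rw [order_conj]; exact hv) (mem_Ce.mp h1)
    rw [hwv] at h2
    exact hnc (mem_Ce.mp (h2 ▸ self_mem_Ce u))
  have hmap : (Me v).map (MulAut.conj w).toMonoidHom = Me u := by
    rw [← Me_conj_eq, Me_eq_of_Ce_eq hwv]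
  obtain ⟨d, hd, hdz⟩ := S.exists_conj_in hv hz hzM hw hwM
  rw [hmap] at hd
  exact ⟨d, hd, hdz⟩

/-- The order of a point stabilizer. -/
theorem card_Me {v u : G} (hv : orderOf v = 2) (hu : orderOf u = 2) (hnc : v * u ≠ u * v) :
    Nat.card (Me v) = Nat.card (Ce v) * Nat.card ↥(Me v ⊓ Me u) := by
  let f : ↥(Ce v) × ↥(Me v ⊓ Me u) → ↥(Me v) := fun p =>
    ⟨(p.2 : G) * p.1, (Me v).mul_mem (Subgroup.mem_inf.mp p.2.2).1 (Ce_le_Me v p.1.2)⟩
  rw [← Nat.card_prod]
  symm
  apply Nat.card_congr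
  refine Equiv.ofBijective f ⟨?_, ?_⟩
  · rintro ⟨c₁, d₁⟩ ⟨c₂, d₂⟩ h
    have h1 : (d₁ : G) * c₁ = d₂ * c₂ := congrArg Subtype.val h
    have h2 : (d₂ : G)⁻¹ * d₁ = c₂ * (c₁ : G)⁻¹ := by
      calc (d₂ : G)⁻¹ * d₁ = (d₂ : G)⁻¹ * (d₁ * c₁) * (c₁ : G)⁻¹ := by group
        _ = (d₂ : G)⁻¹ * (d₂ * c₂) * (c₁ : G)⁻¹ := by rw [h1]
        _ = _ := by group
    have h3 : (d₂ : G)⁻¹ * d₁ = 1 := by
      apply S.inf_eq_one hv hu hnc
      · exact (Me v).mul_mem ((Me v).inv_mem (Subgroup.mem_inf.mp d₂.2).1) (Subgroup.mem_inf.mp d₁.2).1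
      · exact (Me u).mul_mem ((Me u).inv_mem (Subgroup.mem_inf.mp d₂.2).2) (Subgroup.mem_inf.mp d₁.2).2
      · rw [h2]
        exact (Ce v).mul_mem c₂.2 ((Ce v).inv_mem c₁.2)
    have h4 : (d₁ : G) = d₂ := (inv_mul_eq_one.mp h3).symm
    have h5 : (c₁ : G) = c₂ := by
      rw [h4] at h1
      exact mul_left_cancel h1
    exact Prod.ext (Subtype.ext h5) (Subtype.ext h4)
  · rintro ⟨g, hg⟩
    have hz : orderOf (g * v * g⁻¹) = 2 := by
      rw [order_conj]
      exact hv
    have hzM : g * v * g⁻¹ ∈ Me v :=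
      (Me v).mul_mem ((Me v).mul_mem hg (Ce_le_Me v (self_mem_Ce v))) ((Me v).inv_mem hg)
    obtain ⟨d, hd, hdz⟩ := S.exists_conj_inf hv hu hnc hz hzM
    refine ⟨⟨⟨d⁻¹ * g, ?_⟩, ⟨d, hd⟩⟩, ?_⟩
    · rw [mem_Ce]
      have h1 : g * v = d * v * d⁻¹ * g := by
        rw [hdz]
        group
      calc v * (d⁻¹ * g) = d⁻¹ * (d * v * d⁻¹ * g) := by group
        _ = d⁻¹ * (g * v) := by rw [h1]
        _ = _ := by group
    · apply Subtype.ext
      change d * (d⁻¹ * g) = g
      group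

omit S in
/-- Removing one element. -/
theorem card_ne_elem {α : Type*} [Finite α] (x : α) : Nat.card {y : α // y ≠ x} = Nat.card α - 1 := by
  classical
  haveI := Fintype.ofFinite α
  rw [Nat.card_eq_fintype_card, Nat.card_eq_fintype_card, Fintype.card_subtype_compl, Fintype.card_subtype_eq]

/-- The count of points. -/
theorem card_pts_le (ht : orderOf t = 2) {a b₀ : Om t} (hab : a ≠ b₀)
    (hm : 1 < Nat.card ↥(Me (inv t a) ⊓ Me (inv t b₀))) : Nat.card (Om t) - 1 ≤ Nat.card (Ce (inv t a)) := by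
  classical
  haveI : Fintype (Om t) := Fintype.ofFinite _
  set v := inv t a with hv'
  have hv : orderOf v = 2 := order_inv ht a
  set m := Nat.card ↥(Me v ⊓ Me (inv t b₀)) with hm'
  have hD : ∀ b : {b : Om t // b ≠ a}, Nat.card ↥(Me v ⊓ Me (inv t (b : Om t))) = m := by
    rintro ⟨b, hb⟩
    rw [hm', S.card_inf hv (order_inv ht b) (S.not_comm ht hb.symm), S.card_inf hv (order_inv ht b₀) (S.not_comm ht hab)]
  let f : (Σ b : {b : Om t // b ≠ a}, {y : ↥(Me v ⊓ Me (inv t (b : Om t))) // y ≠ 1}) →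
      ↥((Me v : Set G) \ (Ce v : Set G)) := fun p =>
    ⟨(p.2.1 : G), (Subgroup.mem_inf.mp p.2.1.2).1, fun hC => p.2.2 (Subtype.ext
      (S.inf_eq_one hv (order_inv ht _) (S.not_comm ht p.1.2.symm) (Subgroup.mem_inf.mp p.2.1.2).1
        (Subgroup.mem_inf.mp p.2.1.2).2 hC))⟩
  have hf : Function.Injective f := by
    rintro ⟨⟨b₁, h₁⟩, ⟨y₁, hy₁⟩⟩ ⟨⟨b₂, h₂⟩, ⟨y₂, hy₂⟩⟩ h
    have h' : (y₁ : G) = y₂ := congrArg Subtype.val h
    have hb : b₁ = b₂ := by
      by_contra hne
      apply hy₁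
      apply Subtype.ext
      change (y₁ : G) = 1
      have hya : (y₁ : G) • a = a := mem_stab_iff.mpr (Subgroup.mem_inf.mp y₁.2).1
      have hyb₁ : (y₁ : G) • b₁ = b₁ := mem_stab_iff.mpr (Subgroup.mem_inf.mp y₁.2).2
      have hyb₂ : (y₁ : G) • b₂ = b₂ := by
        rw [h']
        exact mem_stab_iff.mpr (Subgroup.mem_inf.mp y₂.2).2
      exact S.no_three ht h₁.symm h₂.symm hne hya hyb₁ hyb₂
    subst hb
    have : y₁ = y₂ := Subtype.ext h'
    subst this
    rfl
  have hcard := Nat.card_le_card_of_injective f hf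
  rw [Nat.card_sigma] at hcard
  have h1 : ∀ b : {b : Om t // b ≠ a}, Nat.card {y : ↥(Me v ⊓ Me (inv t (b : Om t))) // y ≠ 1} = m - 1 := by
    intro b
    rw [card_ne_elem, hD]
  rw [Finset.sum_congr rfl (fun b _ => h1 b), Finset.sum_const, Finset.card_univ, smul_eq_mul,
    ← Nat.card_eq_fintype_card, card_ne_elem] at hcard
  have h2 : Nat.card ↥((Me v : Set G) \ (Ce v : Set G)) = Nat.card (Me v) - Nat.card (Ce v) := by
    rw [Nat.card_coe_set_eq, Set.ncard_sdiff (fun x hx => Ce_le_Me v hx)]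
    rfl
  rw [h2, S.card_Me hv (order_inv ht b₀) (S.not_comm ht hab)] at hcard
  have h3 : Nat.card (Ce v) * m - Nat.card (Ce v) = Nat.card (Ce v) * (m - 1) := by
    rw [Nat.mul_sub, mul_one]
  rw [h3] at hcard
  exact Nat.le_of_mul_le_mul_right hcard (by omega)

/-- The centralizer is regular on the remaining points. -/
theorem Ce_regular (ht : orderOf t = 2) {a b₀ : Om t} (hab : a ≠ b₀)
    (hm : 1 < Nat.card ↥(Me (inv t a) ⊓ Me (inv t b₀))) {y z : Om t} (hy : y ≠ a) (hz : z ≠ a) :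
    ∃! u : ↥(Ce (inv t a)), (u : G) • y = z := by
  have hv : orderOf (inv t a) = 2 := order_inv ht a
  have hCa : ∀ u : ↥(Ce (inv t a)), (u : G) • a = a := fun u =>
    mem_stab_iff.mpr (Ce_le_Me _ u.2)
  let f : ↥(Ce (inv t a)) → {b : Om t // b ≠ a} := fun u =>
    ⟨(u : G) • y, fun h => hy (by
      have h1 : (u : G) • y = (u : G) • a := by rw [h, hCa u]
      exact smul_left_cancel _ h1)⟩
  have hf : Function.Injective f := by
    intro u₁ u₂ h
    have h1 : (u₁ : G) • y = (u₂ : G) • y := congrArg Subtype.val h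
    have h2 : ((u₂ : G)⁻¹ * u₁) • y = y := by
      rw [mul_smul, h1, inv_smul_smul]
    have h3 : ((u₂ : G)⁻¹ * u₁) • a = a := by
      rw [mul_smul, hCa u₁, inv_smul_eq_iff, hCa u₂]
    have h4 : (u₂ : G)⁻¹ * u₁ = 1 := by
      apply S.inf_eq_one hv (order_inv ht y) (S.not_comm ht hy.symm) (mem_stab_iff.mp h3) (mem_stab_iff.mp h2)
      exact (Ce _).mul_mem ((Ce _).inv_mem u₂.2) u₁.2
    exact Subtype.ext (inv_mul_eq_one.mp h4).symm
  have hb : Function.Bijective f := by
    apply hf.bijective_of_nat_card_le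
    rw [card_ne_elem]
    exact S.card_pts_le ht hab hm
  obtain ⟨u, hu⟩ := hb.2 ⟨z, hz⟩
  refine ⟨u, congrArg Subtype.val hu, ?_⟩
  intro u' hu'
  apply hf
  rw [hu]
  exact Subtype.ext hu'

/-- A point other than a given one. -/
theorem exists_other (ht : orderOf t = 2) (a : Om t) : ∃ b : Om t, a ≠ b := by
  obtain ⟨u, _, hu⟩ := S.exists_outside (order_inv ht a)
  refine ⟨u • a, fun h => hu (mem_stab_iff.mp h.symm)⟩

/-- The two point stabilizer is not trivial. -/
theorem one_lt_card_inf (hrk : ∀ v : G, orderOf v = 2 → ∃ y : G, orderOf y = 2 ∧ y ≠ v ∧ v * y = y * v)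
    (ht : orderOf t = 2) {a b : Om t} (hab : a ≠ b) : 1 < Nat.card ↥(Me (inv t a) ⊓ Me (inv t b)) := by
  have hv := order_inv ht a
  rw [S.card_inf hv (order_inv ht b) (S.not_comm ht hab), Finite.one_lt_card_iff_nontrivial]
  obtain ⟨y, hy, hyv, hc⟩ := hrk _ hv
  exact ⟨⟨⟨_, hv, Ce_le_Me _ (self_mem_Ce _)⟩, ⟨y, hy, Ce_le_Me _ (mem_Ce.mpr hc)⟩,
    fun h => hyv (congrArg Subtype.val h).symm⟩⟩

/-- The number of points. -/
theorem card_Ce_add_one (hrk : ∀ v : G, orderOf v = 2 → ∃ y : G, orderOf y = 2 ∧ y ≠ v ∧ v * y = y * v)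
    (ht : orderOf t = 2) (a : Om t) : Nat.card (Ce (inv t a)) + 1 = Nat.card (Om t) := by
  obtain ⟨b, hab⟩ := S.exists_other ht a
  have h1 := S.card_pts_le ht hab (S.one_lt_card_inf hrk ht hab)
  have hv : orderOf (inv t a) = 2 := order_inv ht a
  have hCa : ∀ u : ↥(Ce (inv t a)), (u : G) • a = a := fun u =>
    mem_stab_iff.mpr (Ce_le_Me _ u.2)
  let f : ↥(Ce (inv t a)) → {c : Om t // c ≠ a} := fun u =>
    ⟨(u : G) • b, fun h => hab (by
      have h1 : (u : G) • b = (u : G) • a := by rw [h, hCa u]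
      exact (smul_left_cancel _ h1).symm)⟩
  have hf : Function.Injective f := by
    intro u₁ u₂ h
    have h1 : (u₁ : G) • b = (u₂ : G) • b := congrArg Subtype.val h
    have h2 : ((u₂ : G)⁻¹ * u₁) • b = b := by
      rw [mul_smul, h1, inv_smul_smul]
    have h3 : ((u₂ : G)⁻¹ * u₁) • a = a := by
      rw [mul_smul, hCa u₁, inv_smul_eq_iff, hCa u₂]
    have h4 : (u₂ : G)⁻¹ * u₁ = 1 := by
      apply S.inf_eq_one hv (order_inv ht b) (S.not_comm ht hab) (mem_stab_iff.mp h3) (mem_stab_iff.mp h2)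
      exact (Ce _).mul_mem ((Ce _).inv_mem u₂.2) u₁.2
    exact Subtype.ext (inv_mul_eq_one.mp h4).symm
  have h2 := Nat.card_le_card_of_injective f hf
  rw [card_ne_elem] at h2
  have h3 : 0 < Nat.card (Om t) := Nat.card_pos
  omega

/-- The number of points is odd. -/
theorem odd_card_pts (hrk : ∀ v : G, orderOf v = 2 → ∃ y : G, orderOf y = 2 ∧ y ≠ v ∧ v * y = y * v)
    (ht : orderOf t = 2) (a : Om t) : Odd (Nat.card (Om t)) := by
  rw [← S.card_Ce_add_one hrk ht a]
  apply Even.add_one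
  have hv : orderOf (inv t a) = 2 := order_inv ht a
  have h1 : orderOf (⟨inv t a, self_mem_Ce _⟩ : ↥(Ce (inv t a))) ∣ _ := orderOf_dvd_natCard _
  rw [Subgroup.orderOf_mk, hv] at h1
  exact even_iff_two_dvd.mpr h1

omit S in
/-- A regular action. -/
theorem card_eq_of_regular {N Ω : Type*} [Group N] [MulAction N Ω] (htr : MulAction.IsPretransitive N Ω) (a : Ω)
    (h : MulAction.stabilizer N a = ⊥) : Nat.card N = Nat.card Ω := by
  have h2 := MulAction.index_stabilizer N a
  rw [h, Subgroup.index_bot, MulAction.orbit_eq_univ, Set.ncard_univ] at h2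
  exact h2

/-- The action is a Zassenhaus action. -/
theorem isZassenhaus (hrk : ∀ v : G, orderOf v = 2 → ∃ y : G, orderOf y = 2 ∧ y ≠ v ∧ v * y = y * v)
    (ht : orderOf t = 2) : IsZassenhausGroup G (Om t) := by
  classical
  have hthree : ∀ a : Om t, ∃ b c : Om t, a ≠ b ∧ b ≠ c ∧ a ≠ c := by
    intro a
    obtain ⟨b, hab⟩ := S.exists_other ht a
    have hv : orderOf (inv t a) = 2 := order_inv ht a
    refine ⟨b, inv t a • b, hab, ?_, ?_⟩
    · intro h
      apply ne_one_of_order_two hv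
      exact S.inf_eq_one hv (order_inv ht b) (S.not_comm ht hab) (Ce_le_Me _ (self_mem_Ce _))
        (mem_stab_iff.mp h.symm) (self_mem_Ce _)
    · intro h
      have h1 : inv t a • a = a := mem_stab_iff.mpr (Ce_le_Me _ (self_mem_Ce _))
      apply hab
      have h2 : inv t a • b = inv t a • a := by rw [h1, ← h]
      exact (smul_left_cancel _ h2).symm
  refine ⟨⟨?_⟩, ?_, ?_, ?_, ?_⟩
  · intro g₁ g₂ h
    obtain ⟨a⟩ : Nonempty (Om t) := ⟨QuotientGroup.mk 1⟩
    obtain ⟨b, c, hab, hbc, hac⟩ := hthree a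
    have key : ∀ p : Om t, (g₂⁻¹ * g₁) • p = p := fun p => by
      rw [mul_smul, h p, inv_smul_smul]
    have := S.no_three ht hab hac hbc (key a) (key b) (key c)
    exact (inv_mul_eq_one.mp this).symm
  · rw [MulAction.is_two_pretransitive_iff]
    intro a b c d hab hcd
    obtain ⟨g, hg⟩ := MulAction.exists_smul_eq G a c
    have h1 : g • b ≠ c := by
      rw [← hg]
      exact fun h => hab (smul_left_cancel _ h).symm
    obtain ⟨e, hce⟩ := S.exists_other ht c
    obtain ⟨u, hu, -⟩ := S.Ce_regular ht hce (S.one_lt_card_inf hrk ht hce) h1 hcd.symm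
    refine ⟨u * g, ?_, ?_⟩
    · rw [mul_smul, hg]
      exact mem_stab_iff.mpr (Ce_le_Me _ u.2)
    · rw [mul_smul]
      exact hu
  · intro g a b c hab hbc hac ha hb hc
    exact S.no_three ht hab hac hbc ha hb hc
  · obtain ⟨a⟩ : Nonempty (Om t) := ⟨QuotientGroup.mk 1⟩
    obtain ⟨b, hab⟩ := S.exists_other ht a
    have h1 := S.one_lt_card_inf hrk ht hab
    rw [Finite.one_lt_card_iff_nontrivial] at h1
    obtain ⟨x, hx⟩ := exists_ne (1 : ↥(Me (inv t a) ⊓ Me (inv t b)))
    refine ⟨x, fun h => hx (Subtype.ext h), a, b, hab, mem_stab_iff.mpr (Subgroup.mem_inf.mp x.2).1,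
      mem_stab_iff.mpr (Subgroup.mem_inf.mp x.2).2⟩
  · intro N hN htr
    by_contra hcon
    push Not at hcon
    obtain ⟨a⟩ : Nonempty (Om t) := ⟨QuotientGroup.mk 1⟩
    have h1 : Nat.card N = Nat.card (Om t) := by
      exact card_eq_of_regular htr a (hcon a)
    have h2 : Odd (Nat.card N) := by
      rw [h1]
      exact S.odd_card_pts hrk ht a
    have h3 : N ≠ ⊥ := by
      rintro rfl
      rw [Subgroup.card_bot] at h1
      obtain ⟨b, c, hab, hbc, hac⟩ := hthree a
      haveI : Subsingleton (Om t) := (Nat.card_eq_one_iff_unique.mp h1.symm).1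
      exact hab (Subsingleton.elim _ _)
    exact fitting_ne_bot_of_odd h2 h3 S.fit

/-- The group is simple. -/
theorem isSimple (hrk : ∀ v : G, orderOf v = 2 → ∃ y : G, orderOf y = 2 ∧ y ≠ v ∧ v * y = y * v)
    (ht : orderOf t = 2) : IsSimpleGroup G := by
  letI : Fintype (Om t) := Fintype.ofFinite _
  apply Cfsg.Agent.S0338.result (S.isZassenhaus hrk ht)
  rw [← Nat.card_eq_fintype_card]
  exact S.odd_card_pts hrk ht (QuotientGroup.mk 1)

end Setup

end Cfsg.Agent.Lib.TICent
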