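import Mathlib
import Cfsg.Agent.Lib.TICent.Zass
import Cfsg.Agent.S0885
import Cfsg.Agent.S0738
import Cfsg.Agent.S1147

/-!
# TI centralizers with trivial Fitting subgroup: the centralizers of involutions are elementary abelian
-/

set_option autoImplicit false
set_option linter.style.haveILetI false

namespace Cfsg.Agent.Lib.TICent

open Cfsg Subgroup MulAction

namespace Setup

variable {G : Type*} [Group G] [Finite G] (S : Setup G) {t : G}

include S

/-- An element of `C(v)` commuting with a nonidentity element of a two point stabilizer is trivial. -/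
theorem Ce_fpf (ht : orderOf t = 2) {a b : Om t} (hab : a ≠ b) {d c : G} (hd1 : d ≠ 1) (hda : d • a = a)
    (hdb : d • b = b) (hc : c ∈ Ce (inv t a)) (hcd : c * d = d * c) : c = 1 := by
  have hca : c • a = a := mem_stab_iff.mpr (Ce_le_Me _ hc)
  have hcb : c • b = b := by
    by_contra hne
    apply hd1
    have h1 : d • (c • b) = c • b := by
      rw [← mul_smul, ← hcd, mul_smul, hdb]
    have h2 : a ≠ c • b := by
      intro h
      apply hab
      have : c • b = c • a := by rw [hca, ← h]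
      exact (smul_left_cancel _ this).symm
    exact S.no_three ht hab h2 (Ne.symm hne) hda hdb h1
  exact S.inf_eq_one (order_inv ht a) (order_inv ht b) (S.not_comm ht hab) (mem_stab_iff.mp hca)
    (mem_stab_iff.mp hcb) hc

/-- Squares-trivial elements of `C(v)` are central in `C(v)`. -/
theorem central_of {v x c : G} (hv : orderOf v = 2) (hx : x ∈ Ce v) (hxx : x * x = 1) (hc : c ∈ Ce v) :
    x * c = c * x := by
  by_cases hx1 : x = 1
  · rw [hx1, one_mul, mul_one]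
  · have h1 := S.Ce_eq_of_mem hv (order_two_of_mul_self hxx hx1) (Ce_le_Me v hx)
    rw [← h1] at hc
    exact mem_Ce.mp hc

/-- The elements of `C(v)` with trivial square form a subgroup. -/
theorem exists_E {v : G} (hv : orderOf v = 2) : ∃ E : Subgroup G, ∀ x, x ∈ E ↔ x ∈ Ce v ∧ x * x = 1 := by
  refine ⟨{ carrier := {x | x ∈ Ce v ∧ x * x = 1}
            mul_mem' := ?_
            one_mem' := ?_
            inv_mem' := ?_ }, fun x => Iff.rfl⟩
  · rintro x y ⟨hx, hxx⟩ ⟨hy, hyy⟩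
    refine ⟨(Ce v).mul_mem hx hy, ?_⟩
    calc x * y * (x * y) = x * (y * x) * y := by group
      _ = x * (x * y) * y := by rw [S.central_of hv hx hxx hy]
      _ = (x * x) * (y * y) := by group
      _ = 1 := by rw [hxx, hyy, one_mul]
  · exact ⟨(Ce v).one_mem, one_mul 1⟩
  · rintro x ⟨hx, hxx⟩
    have : x⁻¹ = x := inv_eq_of_mul_eq_one_left hxx
    exact ⟨(Ce v).inv_mem hx, by rw [this]; exact hxx⟩

/-- The order of that subgroup. -/
theorem card_E {v u : G} (hv : orderOf v = 2) (hu : orderOf u = 2) (hnc : v * u ≠ u * v) {E : Subgroup G}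
    (hE : ∀ x, x ∈ E ↔ x ∈ Ce v ∧ x * x = 1) : Nat.card E = Nat.card ↥(Me v ⊓ Me u) + 1 := by
  rw [S.card_inf hv hu hnc]
  have h1 : Nat.card {y : E // y ≠ 1} = Nat.card {t : G // orderOf t = 2 ∧ t ∈ Me v} := by
    apply Nat.card_congr
    refine
      { toFun := fun y => ⟨y.1, order_two_of_mul_self ((hE _).mp y.1.2).2
            (fun h => y.2 (Subtype.ext h)), Ce_le_Me v ((hE _).mp y.1.2).1⟩
        invFun := fun y => ⟨⟨y.1, (hE _).mpr ⟨S.inv_mem_Ce hv y.2.2 (mul_self_of_order_two y.2.1),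
            mul_self_of_order_two y.2.1⟩⟩, fun h => ne_one_of_order_two y.2.1 (congrArg Subtype.val h)⟩
        left_inv := fun y => rfl
        right_inv := fun y => rfl }
  rw [← h1, card_ne_elem]
  have : 0 < Nat.card E := Nat.card_pos
  omega

/-- The key step: an element of `C(v)` moved by a two point stabilizer element within its coset of `E` lies
in `E`. -/
theorem mem_E_of_coset (ht : orderOf t = 2) {a b : Om t} (hab : a ≠ b) {E : Subgroup G}
    (hE : ∀ x, x ∈ E ↔ x ∈ Ce (inv t a) ∧ x * x = 1) {d s y₁ : G} (hd1 : d ≠ 1) (hda : d • a = a)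
    (hdb : d • b = b) (hs : s ∈ Ce (inv t a)) (hy₁ : y₁ ∈ E) (h : d * s * d⁻¹ = s * y₁) : s ∈ E := by
  have hdM : d ∈ Me (inv t a) := mem_stab_iff.mp hda
  have hconj : ∀ y ∈ E, d * y * d⁻¹ ∈ E := by
    intro y hy
    rw [hE] at hy ⊢
    refine ⟨conj_mem_of_mem_Me hdM hy.1, ?_⟩
    calc d * y * d⁻¹ * (d * y * d⁻¹) = d * (y * y) * d⁻¹ := by group
      _ = 1 := by rw [hy.2]; group
  let ψ : E → E := fun y => ⟨d * y * d⁻¹ * (y : G)⁻¹, E.mul_mem (hconj _ y.2) (E.inv_mem y.2)⟩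
  have hψ : Function.Injective ψ := by
    intro y z hyz
    have h1 : d * y * d⁻¹ * (y : G)⁻¹ = d * z * d⁻¹ * (z : G)⁻¹ := congrArg Subtype.val hyz
    have h2 : d * ((y : G)⁻¹ * z) * d⁻¹ = (y : G)⁻¹ * z := by
      have h3 : (d * y * d⁻¹) = d * z * d⁻¹ * (z : G)⁻¹ * y := by
        rw [← h1]
        group
      calc d * ((y : G)⁻¹ * z) * d⁻¹ = (d * y * d⁻¹)⁻¹ * (d * z * d⁻¹) := by group
        _ = (d * z * d⁻¹ * (z : G)⁻¹ * y)⁻¹ * (d * z * d⁻¹) := by rw [← h3]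
        _ = _ := by group
    have h4 : (y : G)⁻¹ * z = 1 := by
      apply S.Ce_fpf ht hab hd1 hda hdb ((hE _).mp (E.mul_mem (E.inv_mem y.2) z.2)).1
      calc (y : G)⁻¹ * z * d = (d * ((y : G)⁻¹ * z) * d⁻¹) * d := by rw [h2]
        _ = _ := by group
    exact Subtype.ext (inv_mul_eq_one.mp h4)
  obtain ⟨y', hy'⟩ := (Finite.injective_iff_surjective.mp hψ) ⟨y₁⁻¹, E.inv_mem hy₁⟩
  have h1 : d * y' * d⁻¹ * (y' : G)⁻¹ = y₁⁻¹ := congrArg Subtype.val hy'
  have h2 : d * (y' : G) * d⁻¹ = y₁⁻¹ * y' := by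
    rw [← h1]
    group
  have h3 : s * y' = 1 := by
    apply S.Ce_fpf ht hab hd1 hda hdb ((Ce _).mul_mem hs ((hE _).mp y'.2).1)
    calc s * y' * d = s * y₁ * (y₁⁻¹ * y') * d := by group
      _ = (d * s * d⁻¹) * (d * (y' : G) * d⁻¹) * d := by rw [h, h2]
      _ = _ := by group
  have h4 : s = (y' : G)⁻¹ := eq_inv_of_mul_eq_one_left h3
  rw [h4]
  exact E.inv_mem y'.2

/-- A numerical condition forces `C(v)` to be commutative. -/
theorem central_of_card (hrk : ∀ v : G, orderOf v = 2 → ∃ y : G, orderOf y = 2 ∧ y ≠ v ∧ v * y = y * v)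
    (ht : orderOf t = 2) {a b : Om t} (hab : a ≠ b) {k : ℕ} (hn : Nat.card (Om t) = 2 ^ (2 * k) + 1)
    (hm : Nat.card ↥(Me (inv t a) ⊓ Me (inv t b)) = 2 ^ k - 1) {s c : G} (hs : s ∈ Ce (inv t a))
    (hc : c ∈ Ce (inv t a)) : s * c = c * s := by
  classical
  set v := inv t a with hv'
  have hv : orderOf v = 2 := order_inv ht a
  obtain ⟨E, hE⟩ := S.exists_E hv
  by_cases hsE : s ∈ E
  · exact S.central_of hv ((hE _).mp hsE).1 ((hE _).mp hsE).2 hc
  have hq : 1 ≤ 2 ^ k := Nat.one_le_two_pow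
  have hcardE : Nat.card E = 2 ^ k := by
    rw [S.card_E hv (order_inv ht b) (S.not_comm ht hab) hE, hm]
    omega
  have hcardC : Nat.card (Ce v) = 2 ^ (2 * k) := by
    have : Nat.card (Ce v) + 1 = Nat.card (Om t) := S.card_Ce_add_one hrk ht a
    rw [hn] at this
    omega
  -- the point stabilizer normalizes the centralizer of `s`
  have hM : ∀ g ∈ Me v, g ∈ Me s := by
    intro g hg
    apply mem_Me_of_conj S.ti (z := v) (mem_Ce_comm.mp hs) (ne_one_of_order_two hv)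
    have h1 : (g * v * g⁻¹) * (g * v * g⁻¹) = 1 := by
      calc (g * v * g⁻¹) * (g * v * g⁻¹) = g * (v * v) * g⁻¹ := by group
        _ = 1 := by rw [mul_self_of_order_two hv]; group
    have h2 := S.central_of hv (conj_mem_of_mem_Me hg (self_mem_Ce v)) h1 hs
    exact mem_Ce.mpr h2.symm
  have hEM : ∀ g ∈ Me v, ∀ y ∈ E, g * y * g⁻¹ ∈ E := by
    intro g hg y hy
    rw [hE] at hy ⊢
    refine ⟨conj_mem_of_mem_Me hg hy.1, ?_⟩
    calc g * y * g⁻¹ * (g * y * g⁻¹) = g * (y * y) * g⁻¹ := by group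
      _ = 1 := by rw [hy.2]; group
  have hEA : ∀ y ∈ E, y ∈ Ce v ⊓ Ce s := by
    intro y hy
    refine Subgroup.mem_inf.mpr ⟨((hE _).mp hy).1, ?_⟩
    exact mem_Ce.mpr (S.central_of hv ((hE _).mp hy).1 ((hE _).mp hy).2 hs).symm
  let D := Me v ⊓ Me (inv t b)
  let f : ↥D × ↥E → ↥(((Ce v ⊓ Ce s : Subgroup G) : Set G) \ (E : Set G)) := fun p =>
    ⟨(p.1 : G) * s * (p.1 : G)⁻¹ * p.2, by
      have hd : (p.1 : G) ∈ Me v := (Subgroup.mem_inf.mp p.1.2).1
      refine ⟨(Ce v ⊓ Ce s).mul_mem (Subgroup.mem_inf.mpr ⟨conj_mem_of_mem_Me hd hs,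
        conj_mem_of_mem_Me (hM _ hd) (self_mem_Ce s)⟩) (hEA _ p.2.2), ?_⟩
      intro hmem
      apply hsE
      have h1 : (p.1 : G) * s * (p.1 : G)⁻¹ ∈ E := by
        have h2 := E.mul_mem hmem (E.inv_mem p.2.2)
        have h3 : (p.1 : G) * s * (p.1 : G)⁻¹ * p.2 * (p.2 : G)⁻¹ = (p.1 : G) * s * (p.1 : G)⁻¹ := by group
        rwa [h3] at h2
      have h2 := hEM _ ((Me v).inv_mem hd) _ h1
      have h3 : (p.1 : G)⁻¹ * ((p.1 : G) * s * (p.1 : G)⁻¹) * (p.1 : G)⁻¹⁻¹ = s := by group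
      rwa [h3] at h2⟩
  have hf : Function.Injective f := by
    rintro ⟨d₁, y₁⟩ ⟨d₂, y₂⟩ h
    have h1 : (d₁ : G) * s * (d₁ : G)⁻¹ * y₁ = (d₂ : G) * s * (d₂ : G)⁻¹ * y₂ := congrArg Subtype.val h
    have hd2M : (d₂ : G)⁻¹ ∈ Me v := (Me v).inv_mem (Subgroup.mem_inf.mp d₂.2).1
    set y' := (d₂ : G)⁻¹ * ((y₂ : G) * (y₁ : G)⁻¹) * (d₂ : G)⁻¹⁻¹ with hy'
    have hy'E : y' ∈ E := hEM _ hd2M _ (E.mul_mem y₂.2 (E.inv_mem y₁.2))
    have h2 : ((d₂ : G)⁻¹ * d₁) * s * ((d₂ : G)⁻¹ * d₁)⁻¹ = s * y' := by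
      have h3 : (d₁ : G) * s * (d₁ : G)⁻¹ = (d₂ : G) * s * (d₂ : G)⁻¹ * y₂ * (y₁ : G)⁻¹ := by
        rw [← h1]
        group
      calc ((d₂ : G)⁻¹ * d₁) * s * ((d₂ : G)⁻¹ * d₁)⁻¹ = (d₂ : G)⁻¹ * ((d₁ : G) * s * (d₁ : G)⁻¹) * d₂ := by group
        _ = (d₂ : G)⁻¹ * ((d₂ : G) * s * (d₂ : G)⁻¹ * y₂ * (y₁ : G)⁻¹) * d₂ := by rw [h3]
        _ = _ := by rw [hy']; group
    have h3 : (d₂ : G)⁻¹ * d₁ = 1 := by
      by_contra hne
      apply hsE
      have hd : ((d₂ : G)⁻¹ * d₁) ∈ Me v := (Me v).mul_mem hd2M (Subgroup.mem_inf.mp d₁.2).1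
      have hd' : ((d₂ : G)⁻¹ * d₁) ∈ Me (inv t b) :=
        (Me (inv t b)).mul_mem ((Me _).inv_mem (Subgroup.mem_inf.mp d₂.2).2) (Subgroup.mem_inf.mp d₁.2).2
      exact S.mem_E_of_coset ht hab hE hne (mem_stab_iff.mpr hd) (mem_stab_iff.mpr hd') hs hy'E h2
    have h4 : (d₁ : G) = d₂ := (inv_mul_eq_one.mp h3).symm
    have h5 : (y₁ : G) = y₂ := by
      rw [h4] at h1
      exact mul_left_cancel h1
    exact Prod.ext (Subtype.ext h4) (Subtype.ext h5)
  have hcard := Nat.card_le_card_of_injective f hf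
  have hcard2 : Nat.card ↥(((Ce v ⊓ Ce s : Subgroup G) : Set G) \ (E : Set G)) =
      Nat.card ↥(Ce v ⊓ Ce s) - Nat.card E := by
    rw [Nat.card_coe_set_eq, Set.ncard_sdiff (fun x hx => hEA x hx)]
    rfl
  rw [hcard2, Nat.card_prod, hcardE] at hcard
  have hD : Nat.card ↥D = 2 ^ k - 1 := hm
  rw [hD] at hcard
  have hle : Nat.card E ≤ Nat.card ↥(Ce v ⊓ Ce s) :=
    Subgroup.card_le_of_le (fun x hx => hEA x hx)
  rw [hcardE] at hle
  have hsq : 2 ^ (2 * k) = 2 ^ k * 2 ^ k := by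
    rw [two_mul, pow_add]
  have hge : Nat.card (Ce v) ≤ Nat.card ↥(Ce v ⊓ Ce s) := by
    rw [hcardC, hsq]
    obtain ⟨r, hr⟩ : ∃ r, 2 ^ k = r + 1 := ⟨2 ^ k - 1, by omega⟩
    rw [hr] at hcard hle ⊢
    simp only [Nat.add_sub_cancel] at hcard
    have h5 := (Nat.le_sub_iff_add_le hle).mp hcard
    calc (r + 1) * (r + 1) = r * (r + 1) + (r + 1) := by ring
      _ ≤ _ := h5
  have heq : Ce v ⊓ Ce s = Ce v := Subgroup.eq_of_le_of_card_ge inf_le_left hge
  have hc' : c ∈ Ce v ⊓ Ce s := by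
    rw [heq]
    exact hc
  exact mem_Ce.mp (Subgroup.mem_inf.mp hc').2

omit S in
/-- Point stabilizers as subgroups. -/
theorem stab_eq (p : Om t) : MulAction.stabilizer G p = Me (inv t p) := by
  ext x
  exact mem_stab_iff

/-- The centralizers of the representing involutions are elementary abelian. -/
theorem Ce_elem (hrk : ∀ v : G, orderOf v = 2 → ∃ y : G, orderOf y = 2 ∧ y ≠ v ∧ v * y = y * v)
    (ht : orderOf t = 2) (a : Om t) :
    (∀ s ∈ Ce (inv t a), ∀ c ∈ Ce (inv t a), s * c = c * s) ∧ ∀ c ∈ Ce (inv t a), c ^ 2 = 1 := by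
  classical
  letI : Fintype (Om t) := Fintype.ofFinite _
  obtain ⟨b, hab⟩ := S.exists_other ht a
  have hZ := S.isZassenhaus hrk ht
  have hcardC := S.card_Ce_add_one hrk ht a
  have hv : orderOf (inv t a) = 2 := order_inv ht a
  have hHa : Ce (inv t a) ≤ MulAction.stabilizer G a := by
    rw [stab_eq]
    exact Ce_le_Me _
  have hodd : Odd (Nat.card ↥(MulAction.stabilizer G a ⊓ MulAction.stabilizer G b : Subgroup G)) := by
    rw [stab_eq, stab_eq]
    exact S.odd_inf hv (order_inv ht b) (S.not_comm ht hab)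
  have hfix : ∀ u ∈ Ce (inv t a), u ≠ 1 → ∀ c : Om t, u • c = c → c = a := by
    intro u hu hu1 c huc
    by_contra hca
    apply hu1
    have hua : u • a = a := mem_stab_iff.mpr (Ce_le_Me _ hu)
    exact S.inf_eq_one hv (order_inv ht c) (S.not_comm ht (Ne.symm hca)) (mem_stab_iff.mp hua)
      (mem_stab_iff.mp huc) hu
  have hreg : ∀ y z : Om t, y ≠ a → z ≠ a → ∃! u : ↥(Ce (inv t a)), (u : G) • y = z := fun y z hy hz =>
    S.Ce_regular ht hab (S.one_lt_card_inf hrk ht hab) hy hz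
  have hcard' : Fintype.card (Om t) = Nat.card (Ce (inv t a)) + 1 := by
    rw [← Nat.card_eq_fintype_card, hcardC]
  rcases Cfsg.Agent.S0885.result hZ hab (Nat.card (Ce (inv t a))) _ hcard' rfl hodd (Ce (inv t a)) hHa
    (by rw [hcard']) hfix with h1 | ⟨h2g, hna, -⟩
  · have hFn : ((Ce (inv t a)).subgroupOf (MulAction.stabilizer G a)).Normal := by
      constructor
      intro x hx g
      rw [Subgroup.mem_subgroupOf] at hx ⊢
      have hg : (g : G) ∈ Me (inv t a) := mem_stab_iff.mp (MulAction.mem_stabilizer_iff.mp g.2)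
      exact conj_mem_of_mem_Me hg hx
    obtain ⟨hcomm, p, f, hp, hpow, -⟩ := Cfsg.Agent.S0738.result hZ hab (by omega) (Ce (inv t a)) hHa hFn hreg
    have hp2 : p = 2 := by
      have h2 : orderOf (inv t a) ∣ p := orderOf_dvd_of_pow_eq_one (hpow _ (self_mem_Ce _))
      rw [hv] at h2
      exact ((Nat.prime_dvd_prime_iff_eq Nat.prime_two hp).mp h2).symm
    subst hp2
    refine ⟨?_, hpow⟩
    intro s hs c hc
    have h2 := hcomm.is_comm.comm ⟨s, hs⟩ ⟨c, hc⟩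
    exact congrArg Subtype.val h2
  · exfalso
    haveI := S.isSimple hrk ht
    obtain ⟨⟨u, hu⟩, ⟨w, hw⟩, huw⟩ := hna
    have hUn : ∀ h ∈ MulAction.stabilizer G a, ∀ u ∈ Ce (inv t a), h * u * h⁻¹ ∈ Ce (inv t a) := fun h hh u hu =>
      conj_mem_of_mem_Me (mem_stab_iff.mp (MulAction.mem_stabilizer_iff.mp hh)) hu
    obtain ⟨k, -, -, hn, -, hm, -⟩ := Cfsg.Agent.S1147.result hZ hab (Ce (inv t a)) hHa hUn hreg h2g
      ⟨u, hu, w, hw, fun h => huw (Subtype.ext h)⟩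
    rw [stab_eq, stab_eq] at hm
    exact huw (Subtype.ext (S.central_of_card hrk ht hab hn hm hu hw))

end Setup

end Cfsg.Agent.Lib.TICent
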