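import Mathlib
import Cfsg.Agent.Lib.TICent.Elem
import Cfsg.Agent.S1230
import Cfsg.Agent.Lib.Compute.SmallField

/-!
# TI centralizers with trivial Fitting subgroup: the identification with `PSL₂(2ⁿ)`
-/

set_option autoImplicit false
set_option linter.style.haveILetI false

namespace Cfsg.Agent.Lib.TICent

open Cfsg Subgroup MulAction

namespace Setup

variable {G : Type*} [Group G] [Finite G] (S : Setup G)

include S

/-- The base point. -/
theorem Ce_inv_base {v : G} (hv : orderOf v = 2) : Ce (inv v (QuotientGroup.mk 1 : Om v)) = Ce v := by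
  apply S.Ce_eq_of_mem hv (order_inv hv _)
  have h1 : inv v (QuotientGroup.mk 1 : Om v) • (QuotientGroup.mk 1 : Om v) = QuotientGroup.mk 1 :=
    mem_stab_iff.mpr (Ce_le_Me _ (self_mem_Ce _))
  have h2 := smul_mk_eq_iff.mp h1
  simpa using h2

/-- All centralizers of involutions are elementary abelian. -/
theorem Ce_elem' (hrk : ∀ v : G, orderOf v = 2 → ∃ y : G, orderOf y = 2 ∧ y ≠ v ∧ v * y = y * v)
    {v : G} (hv : orderOf v = 2) :
    (∀ s ∈ Ce v, ∀ c ∈ Ce v, s * c = c * s) ∧ ∀ c ∈ Ce v, c ^ 2 = 1 := by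
  have h1 := S.Ce_elem hrk hv (QuotientGroup.mk 1)
  rwa [S.Ce_inv_base hv] at h1

/-- The identification. -/
theorem psl_of_setup (hrk : ∀ v : G, orderOf v = 2 → ∃ y : G, orderOf y = 2 ∧ y ≠ v ∧ v * y = y * v)
    {v : G} (hv : orderOf v = 2) :
    ∃ n : ℕ, 2 ≤ n ∧ Nonempty (G ≃* Matrix.ProjectiveSpecialLinearGroup (Fin 2) (GaloisField 2 n)) := by
  classical
  haveI : Fact (Nat.Prime 2) := ⟨Nat.prime_two⟩
  have helem : ∀ w : G, orderOf w = 2 → (∀ s ∈ Ce w, ∀ c ∈ Ce w, s * c = c * s) ∧ ∀ c ∈ Ce w, c ^ 2 = 1 :=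
    fun w hw => S.Ce_elem' hrk hw
  obtain ⟨T, hT⟩ := S.syl v hv
  have hp : IsPGroup 2 (Ce v) := fun c => ⟨1, Subtype.ext (by
    simpa using (helem v hv).2 c c.2)⟩
  have hTe : Ce v = (T : Subgroup G) := T.is_maximal' hp hT
  obtain ⟨y, hy, hyv, hc⟩ := hrk v hv
  have hyC : y ∈ Ce v := mem_Ce.mpr hc
  have hnc : ¬ IsCyclic (T : Subgroup G) := by
    rw [← hTe]
    intro hcyc
    obtain ⟨g, hg⟩ := IsCyclic.exists_generator (α := ↥(Ce v))
    have hgg : g ^ 2 = 1 := Subtype.ext (by simpa using (helem v hv).2 g g.2)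
    have h1 : ∀ x : ↥(Ce v), x = 1 ∨ x = g := by
      intro x
      obtain ⟨k, hk⟩ := Subgroup.mem_zpowers_iff.mp (hg x)
      rcases Int.even_or_odd' k with ⟨j, rfl | rfl⟩
      · left
        rw [← hk, zpow_mul]
        simp [hgg]
      · right
        rw [← hk, zpow_add, zpow_mul]
        simp [hgg]
    have hv1 : (⟨v, self_mem_Ce v⟩ : ↥(Ce v)) ≠ 1 := fun h => ne_one_of_order_two hv (congrArg Subtype.val h)
    have hy1 : (⟨y, hyC⟩ : ↥(Ce v)) ≠ 1 := fun h => ne_one_of_order_two hy (congrArg Subtype.val h)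
    have hvg := (h1 ⟨v, self_mem_Ce v⟩).resolve_left hv1
    have hyg := (h1 ⟨y, hyC⟩).resolve_left hy1
    apply hyv
    have := congrArg Subtype.val (hyg.trans hvg.symm)
    exact this
  have hnn : ¬ (T : Subgroup G).Normal := by
    intro hN
    have h1 : (T : Subgroup G) ≤ fittingSubgroup G :=
      Cfsg.Agent.Lib.Nilpotent.Fitting.le_fittingSubgroup T.isPGroup'.isNilpotent
    rw [S.fit] at h1
    have h2 : v ∈ (T : Subgroup G) := hTe ▸ self_mem_Ce v
    exact ne_one_of_order_two hv (Subgroup.mem_bot.mp (h1 h2))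
  obtain ⟨F, hF, hFt, hcard, ⟨e⟩⟩ := Cfsg.Agent.S1230.result T hnc hnn (fun w hw =>
    ⟨⟨⟨fun a b => Subtype.ext ((helem w hw).1 _ a.2 _ b.2)⟩⟩, (helem w hw).2⟩)
  obtain ⟨j, hj⟩ := IsPGroup.iff_card.mp T.isPGroup'
  have hj2 : 2 ≤ j := by
    by_contra hlt
    have h1 : Nat.card (T : Subgroup G) ≤ 2 := by
      rw [hj]
      calc 2 ^ j ≤ 2 ^ 1 := Nat.pow_le_pow_right (by norm_num) (by omega)
        _ = 2 := by norm_num
    have hv' : v ∈ (T : Subgroup G) := hTe ▸ self_mem_Ce v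
    have hy' : y ∈ (T : Subgroup G) := hTe ▸ hyC
    haveI : Fintype (T : Subgroup G) := Fintype.ofFinite _
    rw [Nat.card_eq_fintype_card] at h1
    have h2 : 2 < Fintype.card (T : Subgroup G) := by
      rw [Fintype.two_lt_card_iff]
      refine ⟨1, ⟨v, hv'⟩, ⟨y, hy'⟩, ?_, ?_, ?_⟩
      · exact fun h => ne_one_of_order_two hv (congrArg Subtype.val h).symm
      · exact fun h => ne_one_of_order_two hy (congrArg Subtype.val h).symm
      · exact fun h => hyv (congrArg Subtype.val h).symm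
    omega
  refine ⟨j, hj2, ?_⟩
  letI : Fintype (GaloisField 2 j) := Fintype.ofFinite _
  have hcardK : Fintype.card (GaloisField 2 j) = 2 ^ j :=
    (Nat.card_eq_fintype_card).symm.trans (GaloisField.card 2 j (by omega))
  have hfe : F ≃+* GaloisField 2 j :=
    FiniteField.ringEquivOfCardEq (by
      rw [hcard]
      change Nat.card (T : Subgroup G) = _
      rw [hj, hcardK])
  exact ⟨e.trans (Cfsg.Agent.Lib.Compute.SmallField.pslCongr hfe)⟩

end Setup

variable {G : Type*} [Group G] [Finite G]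

/-- The conclusion when the Fitting subgroup is trivial and the order is even. -/
theorem psl_of_no_fitting (h : HTI G) (hF : fittingSubgroup G = ⊥) (hev : Even (Nat.card G)) :
    ∃ n : ℕ, 2 ≤ n ∧ Nonempty (G ≃* Matrix.ProjectiveSpecialLinearGroup (Fin 2) (GaloisField 2 n)) := by
  classical
  haveI : Fact (Nat.Prime 2) := ⟨Nat.prime_two⟩
  obtain ⟨P⟩ : Nonempty (Sylow 2 G) := inferInstance
  have hP : (P : Subgroup G) ≠ ⊥ := P.ne_bot_of_dvd_card hev.two_dvd
  haveI : Nontrivial (P : Subgroup G) := (Subgroup.nontrivial_iff_ne_bot _).mpr hP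
  have hPp : IsPGroup 2 (P : Subgroup G) := P.isPGroup'
  haveI hZn := hPp.center_nontrivial
  have hZp : IsPGroup 2 (center (P : Subgroup G)) := hPp.to_subgroup _
  obtain ⟨k, hk⟩ := IsPGroup.iff_card.mp hZp
  have hk0 : k ≠ 0 := by
    rintro rfl
    have h1 : 1 < Nat.card (center (P : Subgroup G)) := Finite.one_lt_card
    rw [hk] at h1
    simp at h1
  obtain ⟨z, hz⟩ := exists_prime_orderOf_dvd_card' (G := center (P : Subgroup G)) 2
    (by rw [hk]; exact dvd_pow_self 2 hk0)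
  set t : G := ((z : (P : Subgroup G)) : G) with ht'
  have ht : orderOf t = 2 := by
    rw [ht', Subgroup.orderOf_coe, Subgroup.orderOf_coe, hz]
  have htP : t ∈ P := (z : (P : Subgroup G)).2
  have hPt : (P : Subgroup G) ≤ Ce t := by
    intro x hx
    rw [mem_Ce]
    have h1 := (Subgroup.mem_center_iff.mp z.2) ⟨x, hx⟩
    have h2 := congrArg Subtype.val h1
    exact h2.symm
  have hse := se_of_sylow h hF ht P hPt
  have htne : t ≠ 1 := Setup.ne_one_of_order_two ht
  obtain ⟨g, hg⟩ : ∃ g, g ∉ Me t := by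
    by_contra hcon
    push Not at hcon
    exact hse.1 (eq_top_iff.mpr fun x _ => hcon x)
  have hw : orderOf (g * t * g⁻¹) = 2 := by
    rw [order_conj]
    exact ht
  have hwM : g * t * g⁻¹ ∉ Me t := by
    intro hin
    apply hg
    refine mem_Me_of_conj h (self_mem_Ce t) htne (mem_Ce_of_sq t P hPt hin ?_)
    calc g * t * g⁻¹ * (g * t * g⁻¹) = g * (t * t) * g⁻¹ := by group
      _ = 1 := by rw [Setup.mul_self_of_order_two ht]; group
  have htM : t ∈ Me t := Ce_le_Me t (self_mem_Ce t)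
  have hconj := (Cfsg.Agent.S1225.result (Me t) hse _ hw hwM t t ht htM ht htM).2
  have hS : Setup G := by
    refine ⟨h, hF, ?_, hconj⟩
    intro v hv
    obtain ⟨c, rfl⟩ := isConj_iff.mp (hconj t v ht hv)
    refine ⟨c • P, ?_⟩
    intro x hx
    rw [Sylow.coe_subgroup_smul, Subgroup.mem_smul_pointwise_iff_exists] at hx
    obtain ⟨y, hy, rfl⟩ := hx
    exact mem_Ce_conj.mpr (hPt hy)
  have hrk0 : ∃ y : G, orderOf y = 2 ∧ y ≠ t ∧ t * y = y * t := by
    by_contra hno
    push Not at hno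
    have hiso : ∀ x : G, x * t * x⁻¹ ∈ P → x * t * x⁻¹ = t := by
      intro x hx
      by_contra hne
      exact hno _ (by rw [order_conj]; exact ht) hne (mem_Ce.mp (hPt hx))
    obtain ⟨N, hN, hNodd, hNc⟩ := Cfsg.Agent.S0215.result P t ht htP hiso
    have hNb : N = ⊥ := by
      by_contra hne
      exact fitting_ne_bot_of_odd hNodd hne hF
    apply hse.1
    have hC : Ce t = ⊤ := by
      rw [eq_top_iff]
      intro x _
      have h1 := hNc x
      rw [hNb, Subgroup.mem_bot] at h1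
      rw [mem_Ce]
      have h2 : t * x * t⁻¹ = x := mul_inv_eq_one.mp h1
      exact mul_inv_eq_iff_eq_mul.mp h2
    rw [eq_top_iff]
    intro x _
    rw [mem_normalizer_iff]
    intro y
    rw [hC]
    simp
  obtain ⟨y₀, hy₀, hy₀t, hy₀c⟩ := hrk0
  have hrk : ∀ v : G, orderOf v = 2 → ∃ y : G, orderOf y = 2 ∧ y ≠ v ∧ v * y = y * v := by
    intro v hv
    obtain ⟨c, rfl⟩ := isConj_iff.mp (hconj t v ht hv)
    refine ⟨c * y₀ * c⁻¹, by rw [order_conj]; exact hy₀, ?_, ?_⟩
    · intro he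
      apply hy₀t
      have h1 : c⁻¹ * (c * y₀ * c⁻¹) * c = y₀ := by group
      rw [he] at h1
      rw [← h1]
      group
    · exact mem_Ce.mp (mem_Ce_conj.mpr (mem_Ce.mpr hy₀c))
  exact hS.psl_of_setup hrk ht

end Cfsg.Agent.Lib.TICent
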